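import Cfsg.Agent.SporRec.G24Rel
import Cfsg.Agent.SporadicRecognition.CosetChain
import Cfsg.Agent.SporadicRecognition.SuzBAll_mg
set_option linter.all false

/-!
Six elements of any group satisfying the relators `R6` generate a finite group of order at most
`251596800 = 416 * 280 * 216 * 10`.  The certificates are those of helper961 for the Suzuki group.
-/

set_option autoImplicit false
set_option maxRecDepth 100000

namespace Cfsg.Agent.SporRec.G24Upper

open Cfsg.Agent.SporadicRecognition Cfsg.Agent.SporadicRecognition.CosetCert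
  Cfsg.Agent.SporadicRecognition.CosetCertHyp Cfsg.Agent.SporadicRecognition.CosetChain
  Cfsg.Agent.SporRec.G24Rel

/-- the relators with natural number letters -/
def rels : List (List ℕ) := R6.map (·.map Fin.val)

/-- the letters -/
def let6 {G : Type*} [Group G] (x : Fin 6 → G) (n : ℕ) : G := if h : n < 6 then x ⟨n, h⟩ else 1

theorem let6_val {G : Type*} [Group G] (x : Fin 6 → G) (i : Fin 6) : let6 x i.val = x i := by
  unfold let6; rw [dif_pos i.isLt]

theorem ev_map {G : Type*} [Group G] (x : Fin 6 → G) (w : List (Fin 6)) :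
    ev (let6 x) (w.map Fin.val) = (w.map x).prod := by
  induction w with
  | nil => rfl
  | cons i w ih => rw [List.map_cons, List.map_cons, List.prod_cons, ev_cons, ih, let6_val]

section

variable {G : Type*} [Group G] (x : Fin 6 → G) (h : ∀ w ∈ R6, (w.map x).prod = 1)

include h

theorem rels_ev : ∀ r ∈ rels, ev (let6 x) r = 1 := by
  intro r hr
  obtain ⟨w, hw, rfl⟩ := List.mem_map.mp hr
  rw [ev_map]; exact h w hw

theorem sq (n : ℕ) (hn : n < 6) : let6 x n * let6 x n = 1 := by
  have h6 : ∀ i : Fin 6, [i, i] ∈ R6 := by decide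
  have := h _ (h6 ⟨n, hn⟩)
  have e : let6 x n = x ⟨n, hn⟩ := let6_val x ⟨n, hn⟩
  rw [e]
  simpa using this

theorem cardE : Finite (Subgroup.closure (let6 x '' {n | n < 2})) ∧
    Nat.card (Subgroup.closure (let6 x '' {n | n < 2})) ≤ 10 * 1 := by
  have := card_step SuzEData.C (let6 x) rels [] ⊥ (fun n hn => ⟨hn, sq x h n (lt_trans hn (by decide))⟩)
    (fun r hr _ => rels_ev x h r hr) (by simp) (by decide +kernel) SuzEAll.part inferInstance
  have h1 : Nat.card (⊥ : Subgroup G) = 1 := by simp
  rw [h1] at this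
  exact this

theorem cardD : Finite (Subgroup.closure (let6 x '' {n | n < 4})) ∧
    Nat.card (Subgroup.closure (let6 x '' {n | n < 4})) ≤ 216 * (10 * 1) := by
  have := card_step SuzDData.C (let6 x) rels [[0],[1]] (Subgroup.closure (let6 x '' {n | n < 2}))
    (fun n hn => ⟨hn, sq x h n (lt_trans hn (by decide))⟩)
    (fun r hr _ => rels_ev x h r hr) (fun s hs _ => sub_letters (let6 x) 2 [[0],[1]] (by decide) s hs)
    (by decide +kernel) SuzDAll.part (cardE x h).1
  exact ⟨this.1, this.2.trans (Nat.mul_le_mul_left _ (cardE x h).2)⟩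

theorem cardC : Finite (Subgroup.closure (let6 x '' {n | n < 5})) ∧
    Nat.card (Subgroup.closure (let6 x '' {n | n < 5})) ≤ 280 * (216 * (10 * 1)) := by
  have := card_step SuzCData.C (let6 x) rels [[0],[1],[2],[3]] (Subgroup.closure (let6 x '' {n | n < 4}))
    (fun n hn => ⟨hn, sq x h n (lt_trans hn (by decide))⟩)
    (fun r hr _ => rels_ev x h r hr)
    (fun s hs _ => sub_letters (let6 x) 4 [[0],[1],[2],[3]] (by decide) s hs)
    (by decide +kernel) SuzCAll.part (cardD x h).1
  exact ⟨this.1, this.2.trans (Nat.mul_le_mul_left _ (cardD x h).2)⟩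

theorem cardB : Finite (Subgroup.closure (let6 x '' {n | n < 6})) ∧
    Nat.card (Subgroup.closure (let6 x '' {n | n < 6})) ≤ 416 * (280 * (216 * (10 * 1))) := by
  have := card_step SuzBData.C (let6 x) rels [[0],[1],[2],[3],[4]]
    (Subgroup.closure (let6 x '' {n | n < 5}))
    (fun n hn => ⟨hn, sq x h n hn⟩)
    (fun r hr _ => rels_ev x h r hr)
    (fun s hs _ => sub_letters (let6 x) 5 [[0],[1],[2],[3],[4]] (by decide) s hs)
    (by decide +kernel) SuzBAll.part (cardC x h).1
  exact ⟨this.1, this.2.trans (Nat.mul_le_mul_left _ (cardC x h).2)⟩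

theorem card_closure_le : Finite (Subgroup.closure (Set.range x)) ∧
    Nat.card (Subgroup.closure (Set.range x)) ≤ 251596800 := by
  have e : let6 x '' {n | n < 6} = Set.range x := by
    ext y
    constructor
    · rintro ⟨n, hn, rfl⟩
      exact ⟨⟨n, hn⟩, (let6_val x ⟨n, hn⟩).symm⟩
    · rintro ⟨i, rfl⟩
      exact ⟨i.val, i.isLt, let6_val x i⟩
  have := cardB x h
  rw [e] at this
  exact ⟨this.1, this.2.trans (by norm_num)⟩

end

end Cfsg.Agent.SporRec.G24Upper
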