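import Cfsg.Agent.SporRec.ONAssembly
import Cfsg.Agent.Lib.SimpleByPrime
import Cfsg.Agent.SporRec.ONLower
import Cfsg.Prelude.Def_Sporadic
set_option linter.all false

-- part: SporRec/ONSimple
section
/-!
Simplicity of a group generated by `L₃(7):2` (as a subgroup of index 122760) and an element `g`
satisfying the O'Nan relations, if its centre lies in the subgroup.
-/

set_option autoImplicit false

namespace Cfsg.Agent.SporRec.ONSimple

open Cfsg.Agent.SporRec.ONL37

theorem outer_mul_outer_mem (A B : SL37) : outer A * outer B ∈ N0 := by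
  rw [outer_mul_outer]
  exact inner_mem_N0 _

/-- The data: a copy of `L₃(7):2` and an element `g` with the O'Nan relations. -/
structure IsONPair {G : Type*} [Group G] (φ : Q →* G) (g : G) : Prop where
  inj : Function.Injective φ
  index : φ.range.index = 122760
  gen : ∀ N : Subgroup G, φ.range ≤ N → g ∈ N → N = ⊤
  g_sq : φ qa * φ qf = g ^ 2
  rel1 : (φ qb * φ qc * φ qd * g) ^ 5 = 1
  rel2 : g * φ qb * ((φ qc)⁻¹ * g * φ qc) * ((φ qb)⁻¹ * g * φ qb) * ((φ qc)⁻¹ * g * φ qc) = 1

variable {G : Type*} [Group G] {φ : Q →* G} {g : G}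

theorem IsONPair.card_range (h : IsONPair φ g) : Nat.card φ.range = 3753792 := by
  rw [← card_Q]
  exact (Nat.card_congr (MonoidHom.ofInjective h.inj).toEquiv).symm

theorem IsONPair.card (h : IsONPair φ g) : Nat.card G = 460815505920 := by
  rw [← Subgroup.card_mul_index φ.range, h.card_range, h.index]

theorem IsONPair.finite (h : IsONPair φ g) : Finite G :=
  Nat.finite_of_card_ne_zero (by rw [h.card]; norm_num)

theorem IsONPair.eq_top (h : IsONPair φ g) (N : Subgroup G) [hN : N.Normal]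
    (hN0 : N0.map φ ≤ N) : N = ⊤ := by
  let π : G →* G ⧸ N := QuotientGroup.mk' N
  have hπ : ∀ x, π x = 1 ↔ x ∈ N := fun x => QuotientGroup.eq_one_iff x
  have key : ∀ A B : SL37, π (φ (outer A)) * π (φ (outer B)) = 1 := by
    intro A B
    rw [← map_mul, ← map_mul, hπ]
    exact hN0 ⟨_, outer_mul_outer_mem A B, rfl⟩
  obtain ⟨s, hs⟩ : ∃ s, s = π (φ qa) := ⟨_, rfl⟩
  have hss : s * s = 1 := by rw [hs]; exact key _ _
  have hall : ∀ A, π (φ (outer A)) = s := by
    intro A
    have h1 := key (sl mA) A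
    change π (φ qa) * _ = 1 at h1
    rw [← hs] at h1
    rw [← mul_right_inj s, h1, hss]
  have hsinv : s⁻¹ = s := inv_eq_of_mul_eq_one_left hss
  have hg2 : π g ^ 2 = 1 := by
    rw [← map_pow, ← h.g_sq, map_mul]
    exact key _ _
  have hb : π (φ qb) = s := hall _
  have hc : π (φ qc) = s := hall _
  have hd : π (φ qd) = s := hall _
  have h2 := congrArg π h.rel2
  simp only [map_mul, map_inv, map_one, hb, hc, hsinv] at h2
  have hg4 : π g * π g = 1 := by rw [← pow_two, hg2]
  have hs1 : s = 1 := by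
    have e : π g * s * (s * π g * s) * (s * π g * s) * (s * π g * s) =
        π g * (s * s) * π g * (s * s) * π g * (s * s) * π g * s := by group
    rw [e, hss] at h2
    simp only [mul_one] at h2
    rw [hg4, one_mul, hg4, one_mul] at h2
    exact h2
  have h1 := congrArg π h.rel1
  simp only [map_pow, map_mul, map_one, hb, hc, hd, hs1, one_mul] at h1
  have hg1 : π g = 1 := by
    have e : π g ^ 5 = π g ^ 2 * π g ^ 2 * π g := by group
    rw [e, hg2, one_mul, one_mul] at h1
    exact h1
  have hqf : φ qf ∈ N := by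
    rw [← hπ, show π (φ qf) = s from hall _, hs1]
  apply h.gen N _ ((hπ g).mp hg1)
  rintro _ ⟨x, rfl⟩
  have hx : x ∈ Subgroup.closure ({qa, qb, qc, qd, qe, qf} : Set Q) := by
    rw [closure_gens]
    trivial
  have hmem : ∀ A, φ (outer A) ∈ N := by
    intro A
    rw [← hπ, hall, hs1]
  have hle : Subgroup.closure ({qa, qb, qc, qd, qe, qf} : Set Q) ≤ N.comap φ := by
    rw [Subgroup.closure_le]
    intro y hy
    simp only [Set.mem_insert_iff, Set.mem_singleton_iff] at hy
    rcases hy with rfl | rfl | rfl | rfl | rfl | rfl <;> exact hmem _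
  exact hle hx

theorem nontrivial_PSL37 : Nontrivial PSL37 := simple_PSL37.toNontrivial

theorem card_N0 : Nat.card N0 = 1876896 := by
  rw [Nat.card_congr N0_equiv.toEquiv, card_PSL37]

theorem simple_N0 : IsSimpleGroup N0 :=
  haveI := simple_PSL37
  haveI : Nontrivial N0 := N0_equiv.toEquiv.nontrivial
  IsSimpleGroup.isSimpleGroup_of_surjective N0_equiv.symm.toMonoidHom N0_equiv.symm.surjective

/-- A proper normal subgroup meets `PSL(3,7)` trivially. -/
theorem IsONPair.disjoint (h : IsONPair φ g) (N : Subgroup G) [hN : N.Normal] (hne : N ≠ ⊤)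
    (x : Q) (hx : x ∈ N0) (hxN : φ x ∈ N) : x = 1 := by
  have hs := simple_N0
  have hn : (N.comap (φ.comp N0.subtype)).Normal := hN.comap _
  rcases hs.eq_bot_or_eq_top_of_normal _ hn with h1 | h1
  · have : (⟨x, hx⟩ : N0) ∈ N.comap (φ.comp N0.subtype) := hxN
    rw [h1, Subgroup.mem_bot] at this
    exact congrArg Subtype.val this
  · exfalso
    apply hne
    apply h.eq_top N
    rintro _ ⟨y, hy, rfl⟩
    have : (⟨y, hy⟩ : N0) ∈ N.comap (φ.comp N0.subtype) := by rw [h1]; trivial
    exact this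

theorem IsONPair.card_dvd (h : IsONPair φ g) (N : Subgroup G) [hN : N.Normal] (hne : N ≠ ⊤) :
    Nat.card N ∣ 245520 := by
  have hfin := h.finite
  have h1 : Nat.card (N ⊔ N0.map φ : Subgroup G) = Nat.card N * 1876896 := by
    have h2 : Nat.card (N0.map φ) = 1876896 := by
      rw [← card_N0]
      exact (Nat.card_congr (N0.equivMapOfInjective φ h.inj).toEquiv).symm
    have h3 : Disjoint N (N0.map φ) := by
      rw [disjoint_iff, eq_bot_iff]
      rintro _ ⟨hy, x, hx, rfl⟩
      rw [h.disjoint N hne x hx hy, map_one]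
      exact Subgroup.one_mem _
    have h4 : (⊥ : Subgroup G).relIndex N * N.relIndex (N ⊔ N0.map φ) =
        (⊥ : Subgroup G).relIndex (N ⊔ N0.map φ) := Subgroup.relIndex_mul_relIndex _ _ _ bot_le le_sup_left
    rw [Subgroup.relIndex_bot_left, Subgroup.relIndex_bot_left, Subgroup.relIndex_sup_left,
      ← Subgroup.inf_relIndex_right, disjoint_iff.mp h3, Subgroup.relIndex_bot_left, h2] at h4
    exact h4.symm
  have h2 : Nat.card (N ⊔ N0.map φ : Subgroup G) ∣ Nat.card G := Subgroup.card_subgroup_dvd_card _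
  rw [h1, h.card] at h2
  have h3 : (460815505920 : ℕ) = 245520 * 1876896 := by norm_num
  rw [h3] at h2
  exact Nat.dvd_of_mul_dvd_mul_right (by norm_num) h2

theorem center_Q : Subgroup.center Q = ⊥ := by
  by_contra hne
  have h1 := N0_le_of_normal (Subgroup.center Q) hne
  have h2 : inner (sl ⟨1, 1, 0, 0, 1, 0, 0, 0, 1⟩) * inner (sl ⟨1, 0, 0, 1, 1, 0, 0, 0, 1⟩) =
      inner (sl ⟨1, 0, 0, 1, 1, 0, 0, 0, 1⟩) * inner (sl ⟨1, 1, 0, 0, 1, 0, 0, 0, 1⟩) :=
    Subgroup.mem_center_iff.mp (h1 (inner_mem_N0 _)) _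
  rw [← inner_mul, ← inner_mul, sl_mul _ _ ⟨2, 1, 0, 1, 1, 0, 0, 0, 1⟩ rfl rfl rfl rfl,
    sl_mul _ _ ⟨1, 1, 0, 1, 2, 0, 0, 0, 1⟩ rfl rfl rfl rfl] at h2
  have h3 : inner (sl ⟨2, 1, 0, 1, 1, 0, 0, 0, 1⟩ * sl ⟨2, 6, 0, 6, 1, 0, 0, 0, 1⟩) = 1 := by
    rw [inner_mul, h2, ← inner_mul, sl_mul _ _ ⟨1, 0, 0, 0, 1, 0, 0, 0, 1⟩ rfl rfl rfl rfl, sl_one,
      inner_one]
  rw [sl_mul _ _ ⟨3, 6, 0, 1, 0, 0, 0, 0, 1⟩ rfl rfl rfl rfl, inner_eq_one_iff,
    Matrix.SpecialLinearGroup.mem_center_iff] at h3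
  obtain ⟨r, _, h4⟩ := h3
  have h5 := congrFun (congrFun h4 0) 1
  have h6 : (sl ⟨3, 6, 0, 1, 0, 0, 0, 0, 1⟩ : SL37).1 0 1 = 6 := by decide
  rw [h6] at h5
  simp at h5
  exact absurd h5.symm (by decide)

/-- The main theorem: simplicity from the data and the centre lying in the subgroup. -/
theorem IsONPair.isSimpleGroup (h : IsONPair φ g)
    (hcen : Subgroup.center G ≤ φ.range) : IsSimpleGroup G := by
  have hfin := h.finite
  have hcen' : Subgroup.center G = ⊥ := by
    rw [eq_bot_iff]
    intro z hz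
    obtain ⟨y, rfl⟩ := hcen hz
    have hy : y ∈ Subgroup.center Q := by
      rw [Subgroup.mem_center_iff]
      intro x
      apply h.inj
      rw [map_mul, map_mul]
      exact Subgroup.mem_center_iff.mp hz _
    rw [center_Q, Subgroup.mem_bot] at hy
    rw [hy, map_one]
    exact Subgroup.one_mem _
  have hnt : Nontrivial G := by
    rw [← Finite.one_lt_card_iff_nontrivial, h.card]
    norm_num
  refine ⟨fun N hN => ?_⟩
  by_cases hne : N = ⊤
  · right; exact hne
  left
  have hdvd := h.card_dvd N hne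
  haveI : Fact (Nat.Prime 19) := ⟨by norm_num⟩
  haveI : Finite N0 := Nat.finite_of_card_ne_zero (by rw [card_N0]; norm_num)
  obtain ⟨x, hx⟩ := exists_prime_orderOf_dvd_card' (G := N0) 19 (by rw [card_N0]; norm_num)
  have hx19 : (φ x.1) ^ 19 = 1 := by
    rw [← map_pow]
    have : x ^ 19 = 1 := by rw [← hx]; exact pow_orderOf_eq_one x
    have h2 : (x.1) ^ 19 = 1 := congrArg Subtype.val this
    rw [h2, map_one]
  have hcomm := Lib.SimpleByPrime.commute_of_normal (p := 19) (by norm_num) N
    (fun hd => by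
      have := hd.trans hdvd
      norm_num at this)
    (fun r i hr hi hri hmod => by
      have h1 : r ^ i ∣ 245520 := hri.trans hdvd
      have hr1 : r ∣ 245520 := (dvd_pow_self r hi.ne').trans h1
      have hr2 : r = 2 ∨ r = 3 ∨ r = 5 ∨ r = 11 ∨ r = 31 := by
        have hf : (245520 : ℕ) = 2 ^ 4 * 3 ^ 2 * 5 * 11 * 31 := by norm_num
        rw [hf] at hr1
        have hp := hr.prime
        rcases hp.dvd_or_dvd hr1 with h2 | h2
        · rcases hp.dvd_or_dvd h2 with h2 | h2
          · rcases hp.dvd_or_dvd h2 with h2 | h2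
            · rcases hp.dvd_or_dvd h2 with h2 | h2
              · left; exact (Nat.prime_dvd_prime_iff_eq hr Nat.prime_two).mp (hp.dvd_of_dvd_pow h2)
              · right; left
                exact (Nat.prime_dvd_prime_iff_eq hr Nat.prime_three).mp (hp.dvd_of_dvd_pow h2)
            · right; right; left
              exact (Nat.prime_dvd_prime_iff_eq hr Nat.prime_five).mp h2
          · right; right; right; left
            exact (Nat.prime_dvd_prime_iff_eq hr (by norm_num)).mp h2
        · right; right; right; right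
          exact (Nat.prime_dvd_prime_iff_eq hr (by norm_num)).mp h2
      have hi5 : i < 5 := by
        by_contra hi5
        have h3 : r ^ 5 ∣ 245520 := (pow_dvd_pow r (not_lt.mp hi5)).trans h1
        rcases hr2 with rfl | rfl | rfl | rfl | rfl <;> norm_num at h3
      rcases hr2 with rfl | rfl | rfl | rfl | rfl <;> interval_cases i <;>
        first
        | exact absurd hmod (by decide)
        | exact absurd h1 (by norm_num))
    (φ x.1) hx19
  have hC : Subgroup.centralizer (N : Set G) = ⊤ := by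
    by_contra hC
    have hxC : φ x.1 ∈ Subgroup.centralizer (N : Set G) := by
      rw [Subgroup.mem_centralizer_iff]
      intro y hy
      exact (hcomm y hy).symm
    have := h.disjoint (Subgroup.centralizer (N : Set G)) hC x.1 x.2 hxC
    have hx1 : x = 1 := Subtype.ext this
    rw [hx1, orderOf_one] at hx
    norm_num at hx
  rw [eq_bot_iff, ← hcen']
  exact Subgroup.centralizer_eq_top_iff_subset.mp hC

end Cfsg.Agent.SporRec.ONSimple
end

-- part: SporRec/ONFinal
section
/-!
The O'Nan group: from the upper bound `122760` for the index of `⟨a, …, f⟩` to the exact index and simplicity.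
-/

set_option autoImplicit false

namespace Cfsg.Agent.SporRec.ONFinal

open Cfsg.Agent.SporRec.ONL37 Cfsg.Agent.SporRec.ONAssembly Cfsg.Agent.SporRec.ONLower
open Cfsg.Spor.ON (Gen extra edges)

theorem rel_mk {r : FreeGroup Gen} (hr : r ∈ extra) :
    PresentedGroup.mk (Cfsg.Spor.coxRelators edges ∪ {r | r ∈ extra}) r = 1 :=
  PresentedGroup.one_of_mem (Or.inr hr)

theorem eq_top_of_gen (N : Subgroup Cfsg.Spor.ON)
    (h : ∀ x : Gen, (PresentedGroup.of x : Cfsg.Spor.ON) ∈ N) : N = ⊤ := by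
  rw [eq_top_iff, ← PresentedGroup.closure_range_of, Subgroup.closure_le]
  rintro _ ⟨x, rfl⟩
  exact h x

variable (h0 : ONAssembly.H.index ≠ 0) (hle : ONAssembly.H.index ≤ 122760)

include h0 hle

theorem index_eq : ONAssembly.H.index = 122760 ∧ Nat.card Cfsg.Spor.ON = 460815505920 ∧
    Function.Injective rho := by
  have hH := card_H ab_ne_one
  have hmul : Nat.card ONAssembly.H * ONAssembly.H.index = Nat.card Cfsg.Spor.ON :=
    Subgroup.card_mul_index _
  rw [hH] at hmul
  have hpos : Nat.card Cfsg.Spor.ON ≠ 0 := by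
    rw [← hmul]
    exact Nat.mul_ne_zero (by norm_num) h0
  have : Finite Cfsg.Spor.ON := Nat.finite_of_card_ne_zero hpos
  have hle' : Nat.card Cfsg.Spor.ON ≤ 460815505920 := by
    rw [← hmul]
    calc 3753792 * ONAssembly.H.index ≤ 3753792 * 122760 := Nat.mul_le_mul_left _ hle
      _ = 460815505920 := by norm_num
  obtain ⟨h1, h2⟩ := card_of_le hle'
  refine ⟨?_, h1, h2⟩
  rw [h1] at hmul
  omega

theorem isONPair : ONSimple.IsONPair theta (PresentedGroup.of Gen.g : Cfsg.Spor.ON) where
  inj := theta_injective ab_ne_one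
  index := by
    rw [range_theta_eq]
    exact (index_eq h0 hle).1
  gen := by
    intro N hN hg
    have h : ∀ q, theta q ∈ N := fun q => hN ⟨q, rfl⟩
    apply eq_top_of_gen
    intro x
    cases x
    · exact hg
    · rw [← theta_qa]; exact h _
    · rw [← theta_qb]; exact h _
    · rw [← theta_qc]; exact h _
    · rw [← theta_qd]; exact h _
    · rw [← theta_qe]; exact h _
    · rw [← theta_qf]; exact h _
  g_sq := by
    rw [theta_qa, theta_qf]
    have h := rel_mk (r := (Cfsg.Spor.ON.a * Cfsg.Spor.ON.f) * ((Cfsg.Spor.ON.g ^ 2)⁻¹)) (.head _)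
    rw [map_mul, map_inv, map_mul, map_pow] at h
    exact mul_inv_eq_one.1 h
  rel1 := by
    rw [theta_qb, theta_qc, theta_qd]
    have h := rel_mk (r := (Cfsg.Spor.ON.b * Cfsg.Spor.ON.c * Cfsg.Spor.ON.d * Cfsg.Spor.ON.g) ^ 5)
      (.tail _ (.tail _ (.tail _ (.tail _ (.head _)))))
    rw [map_pow, map_mul, map_mul, map_mul] at h
    exact h
  rel2 := by
    rw [theta_qb, theta_qc]
    have h := rel_mk (r := Cfsg.Spor.ON.g * Cfsg.Spor.ON.b *
      (Cfsg.Spor.ON.c⁻¹ * Cfsg.Spor.ON.g * Cfsg.Spor.ON.c) *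
      (Cfsg.Spor.ON.b⁻¹ * Cfsg.Spor.ON.g * Cfsg.Spor.ON.b) *
      (Cfsg.Spor.ON.c⁻¹ * Cfsg.Spor.ON.g * Cfsg.Spor.ON.c))
      (.tail _ (.tail _ (.tail _ (.tail _ (.tail _ (.head _))))))
    simp only [map_mul, map_inv] at h
    exact h

/-- Simplicity and order of the presented O'Nan group. -/
theorem isON : Cfsg.IsON Cfsg.Spor.ON := by
  obtain ⟨_, h1, h2⟩ := index_eq h0 hle
  refine ⟨(isONPair h0 hle).isSimpleGroup ?_, h1⟩
  rw [center_eq_bot h2]
  exact bot_le

end Cfsg.Agent.SporRec.ONFinal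
end
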