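import Cfsg.Agent.SporRec.LyReduce
import Cfsg.Agent.SporRec.TwoAn
set_option linter.all false

/-!
# Groups of Lyons type: the basic structure

`LyType G`: an involution `t` whose centraliser is a double cover `2.A₁₁`, all involutions conjugate.
`exists_lyType`: a finite simple group with an involution whose centraliser is a non-split double cover of `A₁₁`
is of this type.
-/

set_option autoImplicit false
set_option linter.dupNamespace false

namespace Cfsg.Agent.SporRec.LyType

open Subgroup Equiv Cfsg.Agent.SporRec.TwoAn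

section cover

variable {α : Type*} [Fintype α] [DecidableEq α] {C : Type*} [Group C] (K : Cover α C)

/-- An involution `≠ z` on fewer than sixteen points moves exactly eight points. -/
theorem card_support_eq_eight (h16 : Fintype.card α < 16) {g : C} (hg : g * g = 1) (hg1 : g ≠ 1) (hgz : g ≠ K.z) :
    (K.π g).support.card = 8 := by
  obtain ⟨h1, m, hm⟩ := K.sq_eq_one_iff.1 hg
  have h2 : (K.π g).support.card ≤ Fintype.card α := Finset.card_le_univ _
  have h3 : (K.π g).support.card ≠ 0 := by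
    intro h
    rw [Finset.card_eq_zero, Perm.support_eq_empty_iff] at h
    rcases (K.ker g).1 h with h | h
    · exact hg1 h
    · exact hgz h
  omega

/-- The cycle type of a fixed-point-free-on-its-support involution. -/
theorem cycleType_of_involution {σ : Perm α} (hσ : σ * σ = 1) {k : ℕ} (hk : σ.support.card = 2 * k) :
    σ.cycleType = Multiset.replicate k 2 := by
  by_cases h1 : σ = 1
  · subst h1
    rw [Perm.support_one, Finset.card_empty] at hk
    have : k = 0 := by omega
    rw [this, Perm.cycleType_one, Multiset.replicate_zero]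
  · have ho : orderOf σ = 2 := orderOf_eq_prime (by rw [pow_two, hσ]) h1
    obtain ⟨n, hn⟩ := Perm.cycleType_prime_order (σ := σ) (by rw [ho]; exact Nat.prime_two)
    rw [ho] at hn
    have hs := σ.sum_cycleType
    rw [hn, Multiset.sum_replicate, hk, smul_eq_mul] at hs
    have : n + 1 = k := by omega
    rw [hn, this]

/-- Lifts `≠ 1, z` of involutions moving the same number of points are conjugate. -/
theorem isConj_of_card_support_eq {g h : C} (hg : K.π g * K.π g = 1) (hh : K.π h * K.π h = 1)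
    (hh1 : K.π h ≠ 1) (hc : (K.π g).support.card = (K.π h).support.card) : ∃ c : C, c * g * c⁻¹ = h := by
  classical
  obtain ⟨k, hk⟩ := K.four_dvd hh
  have e1 : (K.π h).support.card = 2 * (2 * k) := by omega
  have hct : (K.π g).cycleType = (K.π h).cycleType := by
    rw [cycleType_of_involution hg (hc.trans e1), cycleType_of_involution hh e1]
  obtain ⟨τ, hτ⟩ := isConj_iff.1 ((Perm.isConj_iff_cycleType_eq).2 hct)
  -- an even conjugating permutation
  obtain ⟨τ', hτ'e, hτ'⟩ : ∃ τ' : Perm α, τ' ∈ alternatingGroup α ∧ τ' * K.π g * τ'⁻¹ = K.π h := by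
    rcases Int.units_eq_one_or (Perm.sign τ) with h1 | h1
    · exact ⟨τ, Perm.mem_alternatingGroup.2 h1, hτ⟩
    · obtain ⟨a, ha⟩ : ∃ a, K.π h a ≠ a := by
        by_contra hcon
        push Not at hcon
        exact hh1 (Perm.ext hcon)
      refine ⟨swap a (K.π h a) * τ, ?_, ?_⟩
      · rw [Perm.mem_alternatingGroup, map_mul, Perm.sign_swap ha.symm, h1]
        decide
      · have h2 : K.π h (K.π h a) = a := by
          have := congrArg (fun f : Perm α => f a) hh
          simpa using this
        have h3 : K.π h * swap a (K.π h a) * (K.π h)⁻¹ = swap a (K.π h a) := by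
          rw [Equiv.mul_swap_eq_swap_mul, h2, mul_inv_cancel_right, swap_comm]
        calc swap a (K.π h a) * τ * K.π g * (swap a (K.π h a) * τ)⁻¹
            = swap a (K.π h a) * (τ * K.π g * τ⁻¹) * (swap a (K.π h a))⁻¹ := by group
          _ = swap a (K.π h a) * K.π h * (swap a (K.π h a))⁻¹ := by rw [hτ]
          _ = (K.π h * swap a (K.π h a) * (K.π h)⁻¹) * K.π h * (swap a (K.π h a))⁻¹ := by rw [h3]
          _ = K.π h := by group
  obtain ⟨c, hc'⟩ := K.exists_lift hτ'e
  have h4 : K.π (c * g * c⁻¹) = K.π h := by rw [map_mul, map_mul, map_inv, hc', hτ']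
  rcases K.lift_eq h4 with h5 | h5
  · exact ⟨c, h5⟩
  · obtain ⟨w, hw⟩ := K.exists_conj_mul_z hh hh1
    refine ⟨w⁻¹ * c, ?_⟩
    calc w⁻¹ * c * g * (w⁻¹ * c)⁻¹ = w⁻¹ * (c * g * c⁻¹) * w := by group
      _ = w⁻¹ * (w * h * w⁻¹) * w := by rw [h5, hw]
      _ = h := by group

/-- (a) two involutions different from `z` are conjugate when there are fewer than sixteen points. -/
theorem isConj_of_involutions (h16 : Fintype.card α < 16) {g h : C} (hg : g * g = 1) (hg1 : g ≠ 1)
    (hgz : g ≠ K.z) (hh : h * h = 1) (hh1 : h ≠ 1) (hhz : h ≠ K.z) : ∃ c : C, c * g * c⁻¹ = h := by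
  refine isConj_of_card_support_eq K (K.sq_eq_one_iff.1 hg).1 (K.sq_eq_one_iff.1 hh).1 ?_ ?_
  · intro h1
    rcases (K.ker h).1 h1 with h1 | h1
    · exact hh1 h1
    · exact hhz h1
  · rw [card_support_eq_eight K h16 hg hg1 hgz, card_support_eq_eight K h16 hh hh1 hhz]

end cover

/-- A group with an involution `t` whose centraliser is `2.A₁₁`, and with one class of involutions. -/
structure LyType (G : Type*) [Group G] where
  /-- the involution -/
  t : G
  /-- the cover `C_G(t) → A₁₁` -/
  K : Cover (Fin 11) (centralizer ({t} : Set G))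
  hz : (K.z : G) = t
  one : ∀ s : G, s * s = 1 → s ≠ 1 → ∃ g, g * t * g⁻¹ = s

/-- Conjugation as an isomorphism of centralisers. -/
def conjCentEquiv {G : Type*} [Group G] {t s : G} (g : G) (hg : g * t * g⁻¹ = s) :
    centralizer ({t} : Set G) ≃* centralizer ({s} : Set G) where
  toFun x := ⟨g * x * g⁻¹, by
    have hx := mem_centralizer_singleton_iff.1 x.2
    rw [mem_centralizer_singleton_iff, ← hg]
    calc g * x * g⁻¹ * (g * t * g⁻¹) = g * (x * t) * g⁻¹ := by group
      _ = g * (t * x) * g⁻¹ := by rw [hx]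
      _ = g * t * g⁻¹ * (g * x * g⁻¹) := by group⟩
  invFun y := ⟨g⁻¹ * y * g, by
    have hy := mem_centralizer_singleton_iff.1 y.2
    rw [mem_centralizer_singleton_iff]
    have ht : t = g⁻¹ * s * g := by rw [← hg]; group
    calc g⁻¹ * y * g * t = g⁻¹ * y * g * (g⁻¹ * s * g) := by rw [← ht]
      _ = g⁻¹ * (y * s) * g := by group
      _ = g⁻¹ * (s * y) * g := by rw [hy]
      _ = (g⁻¹ * s * g) * (g⁻¹ * y * g) := by group
      _ = t * (g⁻¹ * y * g) := by rw [← ht]⟩
  left_inv x := by
    apply Subtype.ext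
    show g⁻¹ * (g * x * g⁻¹) * g = x
    group
  right_inv y := by
    apply Subtype.ext
    show g * (g⁻¹ * y * g) * g⁻¹ = y
    group
  map_mul' x y := by
    apply Subtype.ext
    show g * ((x : G) * y) * g⁻¹ = g * x * g⁻¹ * (g * y * g⁻¹)
    group

theorem conjCentEquiv_coe {G : Type*} [Group G] {t s : G} (g : G) (hg : g * t * g⁻¹ = s)
    (x : centralizer ({t} : Set G)) : (conjCentEquiv g hg x : G) = g * x * g⁻¹ := rfl

namespace LyType

variable {G : Type*} [Group G] (L : LyType G)

theorem t_mul_t : L.t * L.t = 1 := by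
  have h := congrArg Subtype.val L.K.z_mul_z
  rw [Subgroup.coe_mul, L.hz] at h
  exact h

theorem t_ne : L.t ≠ 1 := by
  intro h
  apply L.K.z_ne
  apply Subtype.ext
  rw [L.hz, h]
  rfl

theorem t_inv : L.t⁻¹ = L.t := inv_eq_of_mul_eq_one_left L.t_mul_t

theorem mem_iff {g : G} : g ∈ centralizer ({L.t} : Set G) ↔ g * L.t = L.t * g := mem_centralizer_singleton_iff

include L in
/-- Any two involutions are conjugate. -/
theorem conj_of_involutions {r s : G} (hr : r * r = 1) (hr1 : r ≠ 1) (hs : s * s = 1) (hs1 : s ≠ 1) :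
    ∃ g : G, g * r * g⁻¹ = s := by
  obtain ⟨a, ha⟩ := L.one r hr hr1
  obtain ⟨b, hb⟩ := L.one s hs hs1
  refine ⟨b * a⁻¹, ?_⟩
  rw [← ha, ← hb]
  group

/-- Change of the base involution by conjugation. -/
def rebase {s : G} (g : G) (hg : g * L.t * g⁻¹ = s) : LyType G where
  t := s
  K := L.K.map (conjCentEquiv g hg)
  hz := by
    show g * (L.K.z : G) * g⁻¹ = s
    rw [L.hz, hg]
  one r hr hr1 := by
    refine L.conj_of_involutions ?_ ?_ hr hr1
    · rw [← hg]
      calc g * L.t * g⁻¹ * (g * L.t * g⁻¹) = g * (L.t * L.t) * g⁻¹ := by group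
        _ = 1 := by rw [L.t_mul_t]; group
    · intro h
      apply L.t_ne
      rw [h] at hg
      have : L.t = g⁻¹ * 1 * g := by rw [← hg]; group
      rw [this]; group

@[simp] theorem rebase_t {s : G} (g : G) (hg : g * L.t * g⁻¹ = s) : (L.rebase g hg).t = s := rfl

include L in
/-- The same group with any involution as base involution. -/
theorem exists_rebase {s : G} (hs : s * s = 1) (hs1 : s ≠ 1) : ∃ L' : LyType G, L'.t = s := by
  obtain ⟨g, hg⟩ := L.one s hs hs1
  exact ⟨L.rebase g hg, rfl⟩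

/-- The involution subgroup: two involutions `≠ t` of `C_G(t)` are conjugate in `C_G(t)`. -/
theorem conj_in_centralizer {r s : G} (hrt : r * L.t = L.t * r) (hst : s * L.t = L.t * s) (hr : r * r = 1)
    (hr1 : r ≠ 1) (hr2 : r ≠ L.t) (hs : s * s = 1) (hs1 : s ≠ 1) (hs2 : s ≠ L.t) :
    ∃ c : G, c * L.t = L.t * c ∧ c * r * c⁻¹ = s := by
  obtain ⟨c, hc⟩ := isConj_of_involutions L.K (by rw [Fintype.card_fin]; norm_num)
    (g := ⟨r, L.mem_iff.2 hrt⟩) (h := ⟨s, L.mem_iff.2 hst⟩) (Subtype.ext hr)
    (fun h => hr1 (congrArg Subtype.val h)) (fun h => hr2 ((congrArg Subtype.val h).trans L.hz)) (Subtype.ext hs)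
    (fun h => hs1 (congrArg Subtype.val h)) (fun h => hs2 ((congrArg Subtype.val h).trans L.hz))
  exact ⟨c, L.mem_iff.1 c.2, congrArg Subtype.val hc⟩

end LyType

/-- Two involutions of a finite group are conjugate or both commute with a common involution. -/
theorem dihedral_dichotomy {G : Type*} [Group G] [Finite G] {s t : G} (hs : s * s = 1) (ht : t * t = 1) :
    (∃ g : G, g * s * g⁻¹ = t) ∨ ∃ w : G, w * w = 1 ∧ w ≠ 1 ∧ w * s = s * w ∧ w * t = t * w := by
  have hsi : s⁻¹ = s := inv_eq_of_mul_eq_one_left hs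
  have hti : t⁻¹ = t := inv_eq_of_mul_eq_one_left ht
  set r := s * t with hr
  have hri : r⁻¹ = t * s := by rw [hr, mul_inv_rev, hsi, hti]
  have hsr : s * r * s⁻¹ = r⁻¹ := by
    rw [hri, hr, hsi]
    calc s * (s * t) * s = (s * s) * t * s := by group
      _ = t * s := by rw [hs, one_mul]
  have htr : t * r * t⁻¹ = r⁻¹ := by
    rw [hri, hr, hti]
    calc t * (s * t) * t = t * s * (t * t) := by group
      _ = t * s := by rw [ht, mul_one]
  have hpow : ∀ k : ℕ, s * r ^ k * s⁻¹ = (r ^ k)⁻¹ := fun k => by rw [← conj_pow, hsr, inv_pow]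
  have hpow' : ∀ k : ℕ, t * r ^ k * t⁻¹ = (r ^ k)⁻¹ := fun k => by rw [← conj_pow, htr, inv_pow]
  rcases Nat.even_or_odd (orderOf r) with ⟨m, hm⟩ | ⟨m, hm⟩
  · right
    have hpos : 0 < orderOf r := orderOf_pos r
    have h1 : r ^ m * r ^ m = 1 := by rw [← pow_add, ← hm, pow_orderOf_eq_one]
    have h2 : r ^ m ≠ 1 := by
      intro h
      have := orderOf_dvd_of_pow_eq_one h
      have := Nat.le_of_dvd (by omega) this
      omega
    have h3 : (r ^ m)⁻¹ = r ^ m := inv_eq_of_mul_eq_one_left h1
    refine ⟨r ^ m, h1, h2, ?_, ?_⟩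
    · have := hpow m
      rw [h3, mul_inv_eq_iff_eq_mul] at this
      exact this.symm
    · have := hpow' m
      rw [h3, mul_inv_eq_iff_eq_mul] at this
      exact this.symm
  · left
    refine ⟨r ^ m, ?_⟩
    have h1 : s * (r ^ m)⁻¹ = r ^ m * s := by
      have := hpow m
      rw [mul_inv_eq_iff_eq_mul] at this
      -- s r^m = (r^m)⁻¹ s
      calc s * (r ^ m)⁻¹ = r ^ m * ((r ^ m)⁻¹ * s) * (r ^ m)⁻¹ := by group
        _ = r ^ m * (s * r ^ m) * (r ^ m)⁻¹ := by rw [this]
        _ = r ^ m * s := by group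
    have h2 : r ^ m * r ^ m * r = 1 := by
      rw [← pow_add, ← pow_succ, ← two_mul, ← hm, pow_orderOf_eq_one]
    calc r ^ m * s * (r ^ m)⁻¹ = r ^ m * (s * (r ^ m)⁻¹) := by group
      _ = r ^ m * r ^ m * s := by rw [h1, mul_assoc]
      _ = r ^ m * r ^ m * (r * t) := by rw [hr, mul_assoc s t t, ht, mul_one]
      _ = t := by rw [← mul_assoc, h2, one_mul]

/-- A finite simple group with an involution whose centraliser is a non-split double cover of `A₁₁` is of Lyons
type. -/
theorem exists_lyType {G : Type*} [Group G] [Finite G] [IsSimpleGroup G] (t : G) (ht : orderOf t = 2)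
    (hcov : Cfsg.IsNonsplitDoubleCover (centralizer ({t} : Set G)) (alternatingGroup (Fin 11))) :
    ∃ L : LyType G, L.t = t := by
  obtain ⟨-, π, h, u, huu, hu1, hut, hcomm, g, hgt, hgu⟩ :=
    Cfsg.Agent.SporRec.LyReduce.reduce 11 (by norm_num) t ht hcov
  set K : Cover (Fin 11) (centralizer ({t} : Set G)) := ofIsCover (by norm_num) h with hK
  have hz : (K.z : G) = t := rfl
  have htt : t * t = 1 := by rw [← pow_two, ← ht, pow_orderOf_eq_one]
  have ht1 : t ≠ 1 := by
    intro h
    rw [h, orderOf_one] at ht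
    exact absurd ht (by norm_num)
  -- involutions of the centraliser
  have hC : ∀ s : G, s * t = t * s → s * s = 1 → s ≠ 1 → ∃ g, g * t * g⁻¹ = s := by
    intro s hst hs hs1
    by_cases hs2 : s = t
    · exact ⟨1, by rw [hs2]; group⟩
    · obtain ⟨c, hc⟩ := isConj_of_involutions K (by rw [Fintype.card_fin]; norm_num)
        (g := ⟨u, mem_centralizer_singleton_iff.2 hcomm⟩) (h := ⟨s, mem_centralizer_singleton_iff.2 hst⟩)
        (Subtype.ext huu) (fun h => hu1 (congrArg Subtype.val h)) (fun h => hut (congrArg Subtype.val h))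
        (Subtype.ext hs) (fun h => hs1 (congrArg Subtype.val h)) (fun h => hs2 (congrArg Subtype.val h))
      have hc' : (c : G) * u * (c : G)⁻¹ = s := congrArg Subtype.val hc
      refine ⟨c * g, ?_⟩
      rw [← hc', ← hgt]
      group
  refine ⟨⟨t, K, hz, ?_⟩, rfl⟩
  intro s hs hs1
  rcases dihedral_dichotomy hs htt with ⟨g, hg⟩ | ⟨w, hw, hw1, hws, hwt⟩
  · exact ⟨g⁻¹, by rw [← hg]; group⟩
  · obtain ⟨b, hb⟩ := hC w hwt hw hw1
    obtain ⟨a, ha⟩ := hC (b⁻¹ * s * b) (by
      have ht' : t = b⁻¹ * w * b := by rw [← hb]; group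
      rw [ht']
      calc b⁻¹ * s * b * (b⁻¹ * w * b) = b⁻¹ * (s * w) * b := by group
        _ = b⁻¹ * (w * s) * b := by rw [hws]
        _ = b⁻¹ * w * b * (b⁻¹ * s * b) := by group) (by
      calc b⁻¹ * s * b * (b⁻¹ * s * b) = b⁻¹ * (s * s) * b := by group
        _ = 1 := by rw [hs]; group) (by
      intro h
      apply hs1
      have : s = b * (b⁻¹ * s * b) * b⁻¹ := by group
      rw [this, h]; group)
    refine ⟨b * a, ?_⟩
    calc b * a * t * (b * a)⁻¹ = b * (a * t * a⁻¹) * b⁻¹ := by group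
      _ = s := by rw [ha]; group

end Cfsg.Agent.SporRec.LyType
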