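import Cfsg.Agent.SporRec.LyType
set_option linter.all false

/-!
# Groups of Lyons type: the 5-local data

`LyFive L`: an element `f` of order `5` of `C_G(t) = 2.A₁₁` lifting a 5-cycle, and `E = O(C_G(f))`, extraspecial of
order `5⁵` and exponent `5`, with `N_G(⟨f⟩) = E N_{C_G(t)}(⟨f⟩)`. This is the interface between the construction of
`E` and the determination of `⟨a, b, c⟩ = 5^{1+4} : GL₂(5)`, of `N_G(⟨f⟩)` and of `G₂(5) ≤ G`.
-/

set_option autoImplicit false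
set_option linter.dupNamespace false

namespace Cfsg.Agent.SporRec.LyFive

open Subgroup Equiv Cfsg.Agent.SporRec.TwoAn Cfsg.Agent.SporRec.LyType

/-- The 5-local data of a group of Lyons type. -/
structure LyFive {G : Type*} [Group G] (L : LyType G) where
  /-- an element of order 5 of the centraliser of `t`, the lift of a 5-cycle -/
  f : G
  f_comm : f * L.t = L.t * f
  f_pow : f ^ 5 = 1
  f_cycle : (L.K.π ⟨f, L.mem_iff.2 f_comm⟩).cycleType = {5}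
  /-- the extraspecial group `O(C_G(f))` -/
  E : Subgroup G
  card_E : Nat.card E = 3125
  pow_E : ∀ e ∈ E, e ^ 5 = 1
  f_mem : f ∈ E
  /-- `f` is central in `E` -/
  f_central : ∀ e ∈ E, e * f = f * e
  /-- `C_E(t) = ⟨f⟩` -/
  cent_t : ∀ e ∈ E, e * L.t = L.t * e → e ∈ zpowers f
  /-- `t` inverts `E / ⟨f⟩` -/
  inv_t : ∀ e ∈ E, L.t * e * L.t⁻¹ * e ∈ zpowers f
  /-- `E' ≤ ⟨f⟩` -/
  comm_E : ∀ e ∈ E, ∀ e' ∈ E, e * e' * e⁻¹ * e'⁻¹ ∈ zpowers f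
  /-- `Z(E) ≤ ⟨f⟩` -/
  center_E : ∀ e ∈ E, (∀ e' ∈ E, e * e' = e' * e) → e ∈ zpowers f
  /-- `N_G(⟨f⟩) ≤ E C_G(t)` -/
  norm_f : ∀ g : G, g * f * g⁻¹ ∈ zpowers f → ∃ e ∈ E, ∃ c : G, c * L.t = L.t * c ∧ g = e * c
  /-- `N_G(⟨f⟩)` normalises `E` -/
  norm_E : ∀ g : G, g * f * g⁻¹ ∈ zpowers f → ∀ e ∈ E, g * e * g⁻¹ ∈ E
  /-- 3-cycles commuting with `f` have a fixed point on `E / ⟨f⟩` -/
  three : ∀ (x : G) (hx : x * L.t = L.t * x), x ^ 3 = 1 → (L.K.π ⟨x, L.mem_iff.2 hx⟩).cycleType = {3} →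
    x * f = f * x → ∃ e ∈ E, e ∉ zpowers f ∧ e * x = x * e

end Cfsg.Agent.SporRec.LyFive
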