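import Mathlib
import Cfsg.Agent.TwoFusion.StronglyEmbeddedBasic
set_option linter.all false

/-!
# Closing lemma for characterisations by the centralizer of a 2-central involution

`t` is a 2-central involution of the finite group `G`, `H` a proper subgroup which contains an
element `g` as soon as it contains `g * t * g⁻¹` (i.e. `C_G(t) ≤ H` and `t^G ∩ H = t^H`).  A
2-subgroup `S` of maximal order among those fixing at least two cosets of `H` contains no conjugate
of `t`, its normalizer is not contained in `H`, and every coset `x S` with `x ∈ N_G(S) - S`,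
`x ^ 2 ∈ S` contains a conjugate of `t` centralizing `S`; in particular `S` is a maximal 2-subgroup
without conjugates of `t`.
-/

set_option autoImplicit false

namespace Cfsg.Agent.SporRec.MaxFix

open Cfsg Cfsg.Agent.TwoFusion.StronglyEmbeddedBasic
open scoped Pointwise

variable {G : Type*} [Group G]

/-- Proper subgroups of a finite `p`-subgroup grow in their normalizer. -/
theorem lt_inf_normalizer {p : ℕ} [Fact p.Prime] [Finite G]
    {P Q : Subgroup G} (hP : IsPGroup p P) (hQ : Q < P) :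
    Q < P ⊓ Subgroup.normalizer (Q : Set G) := by
  have : Group.IsNilpotent P := hP.isNilpotent
  have hnc := Group.normalizerCondition_of_isNilpotent (G := P)
  have h1 : Q.subgroupOf P < ⊤ := by
    rw [lt_top_iff_ne_top]
    intro h
    rw [Subgroup.subgroupOf_eq_top] at h
    exact absurd h (not_le_of_gt hQ)
  have h2 := hnc _ h1
  obtain ⟨x, hx, hx'⟩ := SetLike.exists_of_lt h2
  refine lt_of_le_of_ne (le_inf hQ.le Subgroup.le_normalizer) ?_
  intro heq
  apply hx'
  rw [Subgroup.mem_subgroupOf, heq]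
  refine Subgroup.mem_inf.mpr ⟨x.2, ?_⟩
  rw [Subgroup.mem_normalizer_iff] at hx ⊢
  intro h
  constructor
  · intro hh
    have := (hx ⟨h, hQ.le hh⟩).mp (by simpa [Subgroup.mem_subgroupOf] using hh)
    simpa [Subgroup.mem_subgroupOf] using this
  · intro hh
    have hP' : h ∈ P := by
      have h4 : (x : G) * h * (x : G)⁻¹ ∈ P := hQ.le hh
      have h5 := P.mul_mem (P.mul_mem (P.inv_mem x.2) h4) x.2
      simpa [mul_assoc] using h5
    have := (hx ⟨h, hP'⟩).mpr (by simpa [Subgroup.mem_subgroupOf] using hh)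
    simpa [Subgroup.mem_subgroupOf] using this

/-- A 2-group larger than `S` contains an element of the normalizer of `S` outside `S` whose square
lies in `S`. -/
theorem exists_sq_mem [Finite G] {S R : Subgroup G} (hR : IsPGroup 2 R) (hSR : S < R) :
    ∃ x ∈ R, x ∈ Subgroup.normalizer (S : Set G) ∧ x ∉ S ∧ x * x ∈ S := by
  obtain ⟨x, hx, hxS⟩ := SetLike.exists_of_lt (lt_inf_normalizer hR hSR)
  obtain ⟨hxR, hxN⟩ := Subgroup.mem_inf.mp hx
  have hex : ∃ k : ℕ, x ^ 2 ^ k ∈ S := by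
    obtain ⟨k, hk⟩ := hR ⟨x, hxR⟩
    refine ⟨k, ?_⟩
    have : x ^ 2 ^ k = 1 := by simpa using congrArg Subtype.val hk
    rw [this]; exact S.one_mem
  classical
  have hk := Nat.find_spec hex
  have hmin := fun m (hm : m < Nat.find hex) => Nat.find_min hex hm
  rcases hk0 : Nat.find hex with _ | k
  · rw [hk0] at hk; simp at hk; exact absurd hk hxS
  · refine ⟨x ^ 2 ^ k, R.pow_mem hxR _, Subgroup.pow_mem _ hxN _, ?_, ?_⟩
    · exact hmin k (by omega)
    · rw [hk0] at hk
      rwa [← pow_add, ← two_mul, ← pow_succ']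

section

variable {H : Subgroup G} {t : G}

/-- The basic hypothesis: a conjugate of `t` in `H` is conjugated into `H` only by elements of `H`. -/
theorem mem_of_two (hZ : ∀ g : G, g * t * g⁻¹ ∈ H → g ∈ H) {x k : G}
    (hx : ∃ g, g * t * g⁻¹ = x) (h1 : x ∈ H) (h2 : k⁻¹ * x * k ∈ H) : k ∈ H := by
  obtain ⟨g, rfl⟩ := hx
  have h3 := hZ g h1
  have h4 : k⁻¹ * g ∈ H := hZ (k⁻¹ * g) (by simpa [mul_assoc] using h2)
  have h5 := H.mul_mem h3 (H.inv_mem h4)
  simpa [mul_assoc] using h5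

/-- The set of 2-subgroups of `H` fixing a second coset. -/
def fam (H : Subgroup G) : Set (Subgroup G) :=
  {S | IsPGroup 2 S ∧ S ≤ H ∧ ∃ k ∉ H, ∀ s ∈ S, k⁻¹ * s * k ∈ H}

theorem zfree_of_fam (hZ : ∀ g : G, g * t * g⁻¹ ∈ H → g ∈ H) {S : Subgroup G}
    (hS : S ∈ fam H) (g : G) : g * t * g⁻¹ ∉ S := by
  intro h
  obtain ⟨-, h1, k, hk, h2⟩ := hS
  exact hk (mem_of_two hZ ⟨g, rfl⟩ (h1 h) (h2 _ h))

theorem exists_max_fam [Finite G] (hH : H ≠ ⊤) :
    ∃ S ∈ fam H, ∀ R ∈ fam H, Nat.card R ≤ Nat.card S := by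
  have hfin : (fam H).Finite := Set.toFinite _
  obtain ⟨k, hk⟩ : ∃ k, k ∉ H := by
    by_contra h; push Not at h; exact hH (eq_top_iff.mpr fun x _ => h x)
  have hne : (fam H).Nonempty := ⟨⊥, IsPGroup.of_bot, bot_le, k, hk, by
    intro s hs; rw [Subgroup.mem_bot] at hs; subst hs; simp⟩
  obtain ⟨S, hS, hmax⟩ := Set.exists_max_image (fam H) (fun R => Nat.card R) hfin hne
  exact ⟨S, hS, hmax⟩

/-- A 2-subgroup larger than a maximal member of the family fixes at most one coset. -/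
theorem fix_unique [Finite G] {S : Subgroup G} (hmax : ∀ R ∈ fam H, Nat.card R ≤ Nat.card S)
    {R : Subgroup G} (hR : IsPGroup 2 R) (hSR : S < R) (p q : G ⧸ H)
    (hp : ∀ r ∈ R, r • p = p) (hq : ∀ r ∈ R, r • q = q) : p = q := by
  induction p using QuotientGroup.induction_on with
  | H a =>
  induction q using QuotientGroup.induction_on with
  | H b =>
  by_contra hne
  have key : ∀ (c r : G), r • (QuotientGroup.mk c : G ⧸ H) = QuotientGroup.mk c → c⁻¹ * r * c ∈ H := by
    intro c r h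
    have h1 : (QuotientGroup.mk (r * c) : G ⧸ H) = QuotientGroup.mk c := h
    rw [eq_comm, QuotientGroup.eq] at h1
    simpa [mul_assoc] using h1
  have hmem : R.map (MulAut.conj a⁻¹).toMonoidHom ∈ fam H := by
    refine ⟨hR.map _, ?_, a⁻¹ * b, ?_, ?_⟩
    · rintro _ ⟨r, hr, rfl⟩
      have := key a r (hp r hr)
      simpa using this
    · intro h
      exact hne (QuotientGroup.eq.mpr h)
    · rintro _ ⟨r, hr, rfl⟩
      have := key b r (hq r hr)
      simp only [MulEquiv.coe_toMonoidHom, MulAut.conj_apply, inv_inv, mul_inv_rev]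
      simpa [mul_assoc] using this
  have h1 := hmax _ hmem
  have h2 : Nat.card (R.map (MulAut.conj a⁻¹).toMonoidHom) = Nat.card R :=
    (Nat.card_congr (R.equivMapOfInjective _ (MulAut.conj a⁻¹).injective).toEquiv).symm
  rw [h2] at h1
  exact hSR.ne (Subgroup.eq_of_le_of_card_ge hSR.le h1)

/-- A 2-subgroup fixes at least one coset of a subgroup of odd index. -/
theorem fix_exists [Finite G] (hodd : Odd H.index) {R : Subgroup G} (hR : IsPGroup 2 R) :
    ∃ p : G ⧸ H, ∀ r ∈ R, r • p = p := by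
  have h1 := hR.card_modEq_card_fixedPoints (G ⧸ H)
  have h2 : Nat.card (G ⧸ H) = H.index := rfl
  rw [h2] at h1
  have h3 : Nat.card (MulAction.fixedPoints R (G ⧸ H)) ≠ 0 := by
    intro h
    rw [h] at h1
    have : 2 ∣ H.index := (Nat.modEq_zero_iff_dvd.mp h1)
    obtain ⟨k, hk⟩ := hodd
    omega
  have : Nonempty (MulAction.fixedPoints R (G ⧸ H)) := (Nat.card_ne_zero.mp h3).1
  obtain ⟨p, hp⟩ := this
  exact ⟨p, fun r hr => hp ⟨r, hr⟩⟩

/-- `H` has odd index. -/
theorem odd_index [Finite G] (hZ : ∀ g : G, g * t * g⁻¹ ∈ H → g ∈ H)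
    (htH : t ∈ H) (T : Sylow 2 G) (hT : ∀ x ∈ T, x * t = t * x) : Odd H.index := by
  have hTH : (T : Subgroup G) ≤ H := by
    intro x hx
    apply hZ
    rw [hT x hx]; simpa using htH
  have h1 : (T : Subgroup G).index ≠ 0 := Subgroup.index_ne_zero_of_finite
  have h2 : ¬ 2 ∣ (T : Subgroup G).index := T.not_dvd_index' (by
    exact (Subgroup.index_ne_zero_of_finite))
  have h3 : H.index ∣ (T : Subgroup G).index := Subgroup.index_dvd_of_le hTH
  rw [← Nat.not_even_iff_odd, even_iff_two_dvd]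
  exact fun h => h2 (h.trans h3)

/-- Two cosets `x S`, `y S` of order two modulo `S` in the normalizer of a maximal member `S` of the
family, fixing different cosets of `H`, are conjugate modulo `S`. -/
theorem conj_of_fix_ne [Finite G] (hodd : Odd H.index) {S : Subgroup G} (hSfam : S ∈ fam H)
    (hmax : ∀ R ∈ fam H, Nat.card R ≤ Nat.card S)
    {x y : G} (hx : x ∈ Subgroup.normalizer (S : Set G)) (hy : y ∈ Subgroup.normalizer (S : Set G))
    (hxS : x ∉ S) (hyS : y ∉ S) (hxx : x * x ∈ S) (hyy : y * y ∈ S)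
    (p q : G ⧸ H) (hpS : ∀ s ∈ S, s • p = p) (hqS : ∀ s ∈ S, s • q = q)
    (hp : x • p = p) (hq : y • q = q) (hpq : p ≠ q) :
    ∃ n ∈ Subgroup.normalizer (S : Set G), y⁻¹ * (n * x * n⁻¹) ∈ S := by
  set N := Subgroup.normalizer (S : Set G) with hN
  have hSN : S ≤ N := Subgroup.le_normalizer
  have : (S.subgroupOf N).Normal := Subgroup.normal_in_normalizer
  let π : N →* N ⧸ S.subgroupOf N := QuotientGroup.mk' _
  have hπ : ∀ a b : N, π a = π b ↔ (a : G)⁻¹ * b ∈ S := by
    intro a b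
    rw [show π a = (QuotientGroup.mk a : N ⧸ S.subgroupOf N) from rfl,
      show π b = (QuotientGroup.mk b : N ⧸ S.subgroupOf N) from rfl, QuotientGroup.eq,
      Subgroup.mem_subgroupOf]
    simp
  have hπ1 : ∀ a : N, π a = 1 ↔ (a : G) ∈ S := by
    intro a
    rw [← map_one π, hπ]
    simp
  have hord : ∀ z : N, (z : G) ∉ S → (z : G) * z ∈ S → orderOf (π z) = 2 := by
    intro z h1 h2
    apply orderOf_eq_two_of_mul_self
    · rw [← map_mul, hπ1]; simpa using h2
    · rw [Ne, hπ1]; exact h1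
  set X : N := ⟨x, hx⟩ with hX
  set Y : N := ⟨y, hy⟩ with hY
  have hoX := hord X hxS hxx
  have hoY := hord Y hyS hyy
  by_cases ho : Odd (orderOf (π X * π Y))
  · obtain ⟨j, -, -, hj, -⟩ := exists_swap _ _ hoX hoY ho
    obtain ⟨n, rfl⟩ := QuotientGroup.mk'_surjective _ j
    refine ⟨n, n.2, ?_⟩
    have h1 : π Y = π (n * X * n⁻¹) := by
      rw [map_mul, map_mul, map_inv]; exact hj.symm
    simpa using (hπ _ _).mp h1
  · exfalso
    obtain ⟨k, -, hk2, hkX, hkY⟩ := exists_commuting_involution _ _ hoX hoY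
      (orderOf_pos _) ho
    obtain ⟨z, rfl⟩ := QuotientGroup.mk'_surjective _ k
    have hz1 : (z : G) ∉ S := by
      intro h
      rw [show (QuotientGroup.mk' (S.subgroupOf N)) z = 1 from (hπ1 z).mpr h, orderOf_one] at hk2
      omega
    have hz2 : (z : G) * z ∈ S := by
      have := mul_self_of_orderOf hk2
      have h3 : π (z * z) = 1 := by rw [map_mul]; exact this
      simpa using (hπ1 _).mp h3
    -- the group `R = S ⟨z⟩`
    have hS2 : IsPGroup 2 S := hSfam.1
    have hz2g : IsPGroup 2 (Subgroup.zpowers (z : G)) := by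
      obtain ⟨k, hk⟩ := hS2 ⟨_, hz2⟩
      have hk' : ((z : G) * z) ^ 2 ^ k = 1 := by simpa using congrArg Subtype.val hk
      rw [← pow_two, ← pow_mul, ← pow_succ'] at hk'
      have hd := orderOf_dvd_of_pow_eq_one hk'
      obtain ⟨m, -, hm⟩ := (Nat.dvd_prime_pow Nat.prime_two).mp hd
      exact IsPGroup.of_card (n := m) (by rw [Nat.card_zpowers, hm])
    have hzN : Subgroup.zpowers (z : G) ≤ N := by
      rw [Subgroup.zpowers_le]; exact z.2
    set R := Subgroup.zpowers (z : G) ⊔ S with hR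
    have hR2 : IsPGroup 2 R := hz2g.to_sup_of_normal_right' hS2 hzN
    have hSR : S < R := by
      refine lt_of_le_of_ne le_sup_right ?_
      intro h
      apply hz1
      rw [h]
      exact Subgroup.mem_sup_left (Subgroup.mem_zpowers _)
    obtain ⟨r, hr⟩ := fix_exists hodd hR2
    have hrS : ∀ s ∈ S, s • r = r := fun s hs => hr s (hSR.le hs)
    have hrz : (z : G) • r = r := hr _ (Subgroup.mem_sup_left (Subgroup.mem_zpowers _))
    -- any element of `N` commuting with `z` modulo `S` fixes `r`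
    have hcomm : ∀ w : N, Commute (π z) (π w) → (w : G) • r = r := by
      intro w hw
      have hwz : (w : G)⁻¹ * z * w ∈ R := by
        have h1 : π (w⁻¹ * z * w) = π z := by
          rw [map_mul, map_mul, map_inv, mul_assoc, hw.eq, ← mul_assoc, inv_mul_cancel, one_mul]
        have h2 := (hπ _ _).mp h1.symm
        have h3 : (w : G)⁻¹ * z * w = z * ((z : G)⁻¹ * ((w : G)⁻¹ * z * w)) := by group
        rw [h3]
        refine R.mul_mem (Subgroup.mem_sup_left (Subgroup.mem_zpowers _)) (hSR.le ?_)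
        simpa using h2
      have hfix : ∀ u ∈ R, u • ((w : G) • r) = (w : G) • r := by
        have hsub : R ≤ (MulAction.stabilizer G ((w : G) • r)) := by
          rw [hR, sup_le_iff]
          constructor
          · rw [Subgroup.zpowers_le, MulAction.mem_stabilizer_iff]
            have h4 : (z : G) • (w : G) • r = (w : G) • (((w : G)⁻¹ * z * w) • r) := by
              rw [smul_smul, smul_smul]; congr 1; group
            rw [h4, hr _ hwz]
          · intro s hs
            rw [MulAction.mem_stabilizer_iff]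
            have h5 : (w : G)⁻¹ * s * w ∈ S := by
              have := (Subgroup.mem_normalizer_iff.mp (N.inv_mem w.2) s).mp hs
              simpa using this
            have h4 : s • (w : G) • r = (w : G) • (((w : G)⁻¹ * s * w) • r) := by
              rw [smul_smul, smul_smul]; congr 1; group
            rw [h4, hrS _ h5]
        exact fun u hu => MulAction.mem_stabilizer_iff.mp (hsub hu)
      exact fix_unique hmax hR2 hSR _ _ hfix hr
    -- hence `p = r` and `q = r`
    have hpr : ∀ w : N, (w : G) ∉ S → (w : G) * w ∈ S → Commute (π z) (π w) → ∀ p' : G ⧸ H,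
        (∀ s ∈ S, s • p' = p') → (w : G) • p' = p' → p' = r := by
      intro w hw1 hw2 hw3 p' hp'S hp'w
      have hw2g : IsPGroup 2 (Subgroup.zpowers (w : G)) := by
        obtain ⟨k, hk⟩ := hS2 ⟨_, hw2⟩
        have hk' : ((w : G) * w) ^ 2 ^ k = 1 := by simpa using congrArg Subtype.val hk
        rw [← pow_two, ← pow_mul, ← pow_succ'] at hk'
        have hd := orderOf_dvd_of_pow_eq_one hk'
        obtain ⟨m, -, hm⟩ := (Nat.dvd_prime_pow Nat.prime_two).mp hd
        exact IsPGroup.of_card (n := m) (by rw [Nat.card_zpowers, hm])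
      have hwN : Subgroup.zpowers (w : G) ≤ N := by
        rw [Subgroup.zpowers_le]; exact w.2
      have hW2 : IsPGroup 2 (Subgroup.zpowers (w : G) ⊔ S : Subgroup G) :=
        hw2g.to_sup_of_normal_right' hS2 hwN
      have hSW : S < Subgroup.zpowers (w : G) ⊔ S := by
        refine lt_of_le_of_ne le_sup_right ?_
        intro h
        apply hw1
        rw [h]
        exact Subgroup.mem_sup_left (Subgroup.mem_zpowers _)
      have hst : ∀ p'' : G ⧸ H, (∀ s ∈ S, s • p'' = p'') → (w : G) • p'' = p'' →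
          ∀ u ∈ Subgroup.zpowers (w : G) ⊔ S, u • p'' = p'' := by
        intro p'' h1 h2
        have hsub : Subgroup.zpowers (w : G) ⊔ S ≤ MulAction.stabilizer G p'' := by
          rw [sup_le_iff, Subgroup.zpowers_le]
          exact ⟨h2, fun s hs => h1 s hs⟩
        exact fun u hu => MulAction.mem_stabilizer_iff.mp (hsub hu)
      exact fix_unique hmax hW2 hSW _ _ (hst p' hp'S hp'w) (hst r hrS (hcomm w hw3))
    have e1 := hpr X hxS hxx hkX p hpS hp
    have e2 := hpr Y hyS hyy hkY q hqS hq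
    exact hpq (e1.trans e2.symm)

/-- **Closing lemma.** -/
theorem exists_max [Finite G] (hH : H ≠ ⊤) (hZ : ∀ g : G, g * t * g⁻¹ ∈ H → g ∈ H)
    (ht : orderOf t = 2) (htH : t ∈ H) (T : Sylow 2 G) (hT : ∀ x ∈ T, x * t = t * x) :
    ∃ S : Subgroup G, S ≤ H ∧ IsPGroup 2 S ∧ (∀ g, g * t * g⁻¹ ∉ S) ∧
      ¬ (Subgroup.normalizer (S : Set G) ≤ H) ∧
      (∃ g, ∀ s ∈ S, s * (g * t * g⁻¹) = (g * t * g⁻¹) * s) ∧
      (∀ x ∈ Subgroup.normalizer (S : Set G), x ∉ S → x * x ∈ S →
        ∃ g, (∀ s ∈ S, s * (g * t * g⁻¹) = (g * t * g⁻¹) * s) ∧ x⁻¹ * (g * t * g⁻¹) ∈ S) ∧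
      (∀ R : Subgroup G, IsPGroup 2 R → S < R → ∃ g, g * t * g⁻¹ ∈ R) := by
  obtain ⟨S, hS, hmax⟩ := exists_max_fam hH
  have hodd := odd_index hZ htH T hT
  have hzf := zfree_of_fam hZ hS
  obtain ⟨hS2, hSH, k, hk, hkS⟩ := hS
  have hTH : (T : Subgroup G) ≤ H := by
    intro x hx
    apply hZ
    rw [hT x hx]; simpa using htH
  have htT : t ∈ T := by
    have h1 : IsPGroup 2 (Subgroup.zpowers t) :=
      IsPGroup.of_card (n := 1) (by rw [Nat.card_zpowers, ht, pow_one])
    have h2 : IsPGroup 2 (Subgroup.zpowers t ⊔ T : Subgroup G) := by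
      refine h1.to_sup_of_normal_right' T.2 ?_
      rw [Subgroup.zpowers_le, Subgroup.mem_normalizer_iff]
      intro x
      constructor
      · intro hx
        have := hT x hx
        rw [← this]; simpa using hx
      · intro hx
        have h3 := hT _ hx
        have h4 : t * x * t⁻¹ * t = t * x := by group
        rw [h4] at h3
        have h5 : x = t * x * t⁻¹ := by
          have := congrArg (fun z => t⁻¹ * z) h3
          simpa [mul_assoc] using this
        rwa [← h5] at hx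
    have h3 := T.3 h2 le_sup_right
    have h4 : t ∈ (Subgroup.zpowers t ⊔ T : Subgroup G) :=
      Subgroup.mem_sup_left (Subgroup.mem_zpowers _)
    rw [h3] at h4
    exact h4
  -- `S` is properly contained in a 2-subgroup of each `c H c⁻¹` containing it
  have hbig : ∀ c : G, (∀ s ∈ S, c⁻¹ * s * c ∈ H) →
      ∃ x ∈ Subgroup.normalizer (S : Set G), x ∉ S ∧ x * x ∈ S ∧ c⁻¹ * x * c ∈ H := by
    intro c hc
    -- the subgroup `c⁻¹ S c` of `H` lies in a Sylow 2-subgroup of `H`
    set S' := S.map (MulAut.conj c⁻¹).toMonoidHom with hS'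
    have hS'H : S' ≤ H := by
      rintro _ ⟨s, hs, rfl⟩
      simpa using hc s hs
    have h1 : IsPGroup 2 (S'.subgroupOf H) :=
      (hS2.map _).comap_of_injective H.subtype H.subtype_injective
    obtain ⟨P, hP⟩ := h1.exists_le_sylow
    have h2 : IsPGroup 2 (((T : Subgroup G).subgroupOf H)) :=
      T.2.comap_of_injective H.subtype H.subtype_injective
    obtain ⟨P', hP'⟩ := h2.exists_le_sylow
    obtain ⟨h, hh⟩ := MulAction.exists_smul_eq H P' P
    have hSP : S' ≤ (P : Subgroup H).map H.subtype := by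
      intro x hx
      exact ⟨⟨x, hS'H hx⟩, hP hx, rfl⟩
    have htP : (h : G) * t * (h : G)⁻¹ ∈ (P : Subgroup H).map H.subtype := by
      refine ⟨h * ⟨t, htH⟩ * h⁻¹, ?_, by simp⟩
      rw [← hh]
      have : (⟨t, htH⟩ : H) ∈ P' := hP' (by rw [Subgroup.mem_subgroupOf]; exact htT)
      exact Subgroup.smul_mem_pointwise_smul _ (MulAut.conj h) _ this
    have hne : (h : G) * t * (h : G)⁻¹ ∉ S' := by
      rintro ⟨s, hs, hs'⟩
      have : s = (c * h) * t * (c * h)⁻¹ := by
        have h3 : c⁻¹ * s * c = (h : G) * t * (h : G)⁻¹ := by simpa using hs'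
        have h4 : s = c * (c⁻¹ * s * c) * c⁻¹ := by group
        rw [h4, h3]; group
      exact hzf (c * h) (this ▸ hs)
    set Q := (((P : Subgroup H).map H.subtype).map (MulAut.conj c).toMonoidHom) with hQ
    have hQ2 : IsPGroup 2 Q := (P.2.map _).map _
    have hSQ : S < Q := by
      refine lt_of_le_of_ne ?_ ?_
      · intro s hs
        refine ⟨c⁻¹ * s * c, hSP ⟨s, hs, by simp⟩, by simp [mul_assoc]⟩
      · intro h5
        apply hne
        have h6 : c * ((h : G) * t * (h : G)⁻¹) * c⁻¹ ∈ Q := ⟨_, htP, by simp⟩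
        rw [← h5] at h6
        exact ⟨_, h6, by simp [mul_assoc]⟩
    obtain ⟨x, hxQ, hxN, hxS, hxx⟩ := exists_sq_mem hQ2 hSQ
    refine ⟨x, hxN, hxS, hxx, ?_⟩
    obtain ⟨_, ⟨z, hz, rfl⟩, rfl⟩ := hxQ
    simp [mul_assoc]
  obtain ⟨a, haN, haS, haa, haH⟩ := hbig 1 (fun s hs => by simpa using hSH hs)
  obtain ⟨b, hbN, hbS, hbb, hbH⟩ := hbig k hkS
  have hfixk : ∀ x : G, k⁻¹ * x * k ∈ H → x • (QuotientGroup.mk k : G ⧸ H) = QuotientGroup.mk k := by
    intro x hx
    show (QuotientGroup.mk (x * k) : G ⧸ H) = QuotientGroup.mk k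
    rw [eq_comm, QuotientGroup.eq]
    simpa [mul_assoc] using hx
  have hfix1 : ∀ x : G, x ∈ H → x • (QuotientGroup.mk 1 : G ⧸ H) = QuotientGroup.mk 1 := by
    intro x hx
    show (QuotientGroup.mk (x * 1) : G ⧸ H) = QuotientGroup.mk 1
    rw [eq_comm, QuotientGroup.eq]
    simpa [mul_assoc] using hx
  have hk1 : (QuotientGroup.mk 1 : G ⧸ H) ≠ QuotientGroup.mk k := by
    rw [Ne, QuotientGroup.eq]; simpa using hk
  have hSfam : S ∈ fam H := ⟨hS2, hSH, k, hk, hkS⟩
  -- a conjugate of `t` centralizing `S`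
  obtain ⟨P, hP⟩ := hS2.exists_le_sylow
  obtain ⟨g, hg⟩ := MulAction.exists_smul_eq G T P
  have hgc : ∀ s ∈ S, s * (g * t * g⁻¹) = (g * t * g⁻¹) * s := by
    intro s hs
    have h1 : s ∈ g • T := by rw [hg]; exact hP hs
    have h1' : s ∈ MulAut.conj g • (T : Subgroup G) := h1
    rw [Subgroup.mem_pointwise_smul_iff_inv_smul_mem] at h1'
    have h2 : g⁻¹ * s * g ∈ (T : Subgroup G) := by simpa [MulAut.smul_def] using h1'
    have h3 := hT _ h2
    have h4 : s * (g * t * g⁻¹) = g * ((g⁻¹ * s * g) * t) * g⁻¹ := by group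
    rw [h4, h3]; group
  have hgN : g * t * g⁻¹ ∈ Subgroup.normalizer (S : Set G) := by
    rw [Subgroup.mem_normalizer_iff]
    intro s
    constructor
    · intro hs
      have h3 : (g * t * g⁻¹) * s * (g * t * g⁻¹)⁻¹ = s := by
        rw [← hgc s hs, mul_inv_cancel_right]
      exact h3.symm ▸ hs
    · intro hs
      have h3 := hgc _ hs
      set z := g * t * g⁻¹ with hz
      have h4 : z * s * z⁻¹ * z = z * s := by group
      rw [h4] at h3
      have h5 : s = z * s * z⁻¹ := by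
        have := congrArg (fun w => z⁻¹ * w) h3
        simpa [mul_assoc] using this
      rwa [← h5] at hs
  have hgg : (g * t * g⁻¹) * (g * t * g⁻¹) = 1 := by
    have := mul_self_of_orderOf ht
    calc (g * t * g⁻¹) * (g * t * g⁻¹) = g * (t * t) * g⁻¹ := by group
      _ = 1 := by rw [this]; group
  -- all cosets of order two are conjugate to the one of `a`
  have hconj : ∀ x ∈ Subgroup.normalizer (S : Set G), x ∉ S → x * x ∈ S →
      ∃ n ∈ Subgroup.normalizer (S : Set G), x⁻¹ * (n * a * n⁻¹) ∈ S := by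
    intro x hxN hxS hxx
    -- `S ⟨x⟩` fixes some coset
    have hx2g : IsPGroup 2 (Subgroup.zpowers (x : G)) := by
      obtain ⟨k, hk⟩ := hS2 ⟨_, hxx⟩
      have hk' : (x * x) ^ 2 ^ k = 1 := by simpa using congrArg Subtype.val hk
      rw [← pow_two, ← pow_mul, ← pow_succ'] at hk'
      have hd := orderOf_dvd_of_pow_eq_one hk'
      obtain ⟨m, -, hm⟩ := (Nat.dvd_prime_pow Nat.prime_two).mp hd
      exact IsPGroup.of_card (n := m) (by rw [Nat.card_zpowers, hm])
    have hxN' : Subgroup.zpowers x ≤ Subgroup.normalizer (S : Set G) := by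
      rw [Subgroup.zpowers_le]; exact hxN
    have hW2 : IsPGroup 2 (Subgroup.zpowers x ⊔ S : Subgroup G) :=
      hx2g.to_sup_of_normal_right' hS2 hxN'
    obtain ⟨r, hr⟩ := fix_exists hodd hW2
    have hrS : ∀ s ∈ S, s • r = r := fun s hs => hr s (Subgroup.mem_sup_right hs)
    have hrx : x • r = r := hr x (Subgroup.mem_sup_left (Subgroup.mem_zpowers _))
    by_cases hr1 : r = QuotientGroup.mk 1
    · -- first conjugate `b` to `x`, then `a` to `b`
      obtain ⟨n1, hn1, h1⟩ := conj_of_fix_ne hodd hSfam hmax hbN hxN hbS hxS hbb hxx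
        (QuotientGroup.mk k) r (fun s hs => hfixk s (hkS s hs)) hrS (hfixk b hbH) hrx
        (by rw [hr1]; exact hk1.symm)
      obtain ⟨n2, hn2, h2⟩ := conj_of_fix_ne hodd hSfam hmax haN hbN haS hbS haa hbb
        (QuotientGroup.mk 1) (QuotientGroup.mk k) (fun s hs => hfix1 s (hSH hs))
        (fun s hs => hfixk s (hkS s hs)) (hfix1 a (by simpa using haH)) (hfixk b hbH) hk1
      refine ⟨n1 * n2, Subgroup.mul_mem _ hn1 hn2, ?_⟩
      have h3 : n1 * (b⁻¹ * (n2 * a * n2⁻¹)) * n1⁻¹ ∈ S :=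
        (Subgroup.mem_normalizer_iff.mp hn1 _).mp h2
      have h4 := S.mul_mem h1 h3
      have h5 : x⁻¹ * (n1 * b * n1⁻¹) * (n1 * (b⁻¹ * (n2 * a * n2⁻¹)) * n1⁻¹)
          = x⁻¹ * (n1 * n2 * a * (n1 * n2)⁻¹) := by group
      rwa [h5] at h4
    · exact conj_of_fix_ne hodd hSfam hmax haN hxN haS hxS haa hxx
        (QuotientGroup.mk 1) r (fun s hs => hfix1 s (hSH hs)) hrS (hfix1 a (by simpa using haH))
        hrx (fun h => hr1 h.symm)
  -- every coset of order two contains a conjugate of `t` centralizing `S`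
  have hcos : ∀ x ∈ Subgroup.normalizer (S : Set G), x ∉ S → x * x ∈ S →
        ∃ g, (∀ s ∈ S, s * (g * t * g⁻¹) = (g * t * g⁻¹) * s) ∧ x⁻¹ * (g * t * g⁻¹) ∈ S := by
    intro x hxN hxS hxx
    obtain ⟨n, hn, h1⟩ := hconj x hxN hxS hxx
    obtain ⟨m, hm, h2⟩ := hconj (g * t * g⁻¹) hgN (hzf g) (by rw [hgg]; exact S.one_mem)
    -- `x ≡ n a n⁻¹`, `z ≡ m a m⁻¹`, so `x ≡ (n m⁻¹) z (n m⁻¹)⁻¹`
    refine ⟨n * m⁻¹ * g, ?_, ?_⟩
    · have hc : n * m⁻¹ ∈ Subgroup.normalizer (S : Set G) :=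
        Subgroup.mul_mem _ hn (Subgroup.inv_mem _ hm)
      intro s hs
      have hs' : (n * m⁻¹)⁻¹ * s * (n * m⁻¹) ∈ S := by
        have := (Subgroup.mem_normalizer_iff.mp (Subgroup.inv_mem _ hc) s).mp hs
        simpa using this
      have h3 := hgc _ hs'
      have h4 : s * (n * m⁻¹ * g * t * (n * m⁻¹ * g)⁻¹)
          = (n * m⁻¹) * (((n * m⁻¹)⁻¹ * s * (n * m⁻¹)) * (g * t * g⁻¹)) * (n * m⁻¹)⁻¹ := by group
      rw [h4, h3]; group
    · have hc : n * m⁻¹ ∈ Subgroup.normalizer (S : Set G) :=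
        Subgroup.mul_mem _ hn (Subgroup.inv_mem _ hm)
      -- `z⁻¹ (m a m⁻¹) ∈ S`
      have h3 : (n * m⁻¹) * ((g * t * g⁻¹)⁻¹ * (m * a * m⁻¹))⁻¹ * (n * m⁻¹)⁻¹ ∈ S :=
        (Subgroup.mem_normalizer_iff.mp hc _).mp (S.inv_mem h2)
      have h4 : x⁻¹ * (n * m⁻¹ * g * t * (n * m⁻¹ * g)⁻¹)
          = (x⁻¹ * (n * a * n⁻¹)) * ((n * m⁻¹) * ((g * t * g⁻¹)⁻¹ * (m * a * m⁻¹))⁻¹ * (n * m⁻¹)⁻¹) := by
        group
      rw [h4]
      exact S.mul_mem h1 h3
  refine ⟨S, hSH, hS2, hzf, ?_, ⟨g, hgc⟩, hcos, ?_⟩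
  · -- the normalizer is not contained in `H`
    intro hN
    have hbH' : b ∈ H := hN hbN
    -- then `S ⟨b⟩` fixes two cosets
    have hb2g : IsPGroup 2 (Subgroup.zpowers (b : G)) := by
      obtain ⟨k, hk⟩ := hS2 ⟨_, hbb⟩
      have hk' : (b * b) ^ 2 ^ k = 1 := by simpa using congrArg Subtype.val hk
      rw [← pow_two, ← pow_mul, ← pow_succ'] at hk'
      have hd := orderOf_dvd_of_pow_eq_one hk'
      obtain ⟨m, -, hm⟩ := (Nat.dvd_prime_pow Nat.prime_two).mp hd
      exact IsPGroup.of_card (n := m) (by rw [Nat.card_zpowers, hm])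
    have hbN' : Subgroup.zpowers b ≤ Subgroup.normalizer (S : Set G) := by
      rw [Subgroup.zpowers_le]; exact hbN
    have hW2 : IsPGroup 2 (Subgroup.zpowers b ⊔ S : Subgroup G) :=
      hb2g.to_sup_of_normal_right' hS2 hbN'
    have hSW : S < Subgroup.zpowers b ⊔ S := by
      refine lt_of_le_of_ne le_sup_right ?_
      intro h
      apply hbS
      rw [h]
      exact Subgroup.mem_sup_left (Subgroup.mem_zpowers _)
    refine hk1 (fix_unique hmax hW2 hSW _ _ ?_ ?_)
    · have hsub : Subgroup.zpowers b ⊔ S ≤ MulAction.stabilizer G (QuotientGroup.mk 1 : G ⧸ H) := by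
        rw [sup_le_iff, Subgroup.zpowers_le]
        exact ⟨hfix1 b hbH', fun s hs => hfix1 s (hSH hs)⟩
      exact fun u hu => MulAction.mem_stabilizer_iff.mp (hsub hu)
    · have hsub : Subgroup.zpowers b ⊔ S ≤ MulAction.stabilizer G (QuotientGroup.mk k : G ⧸ H) := by
        rw [sup_le_iff, Subgroup.zpowers_le]
        exact ⟨hfixk b hbH, fun s hs => hfixk s (hkS s hs)⟩
      exact fun u hu => MulAction.mem_stabilizer_iff.mp (hsub hu)
  · intro R hR hSR
    obtain ⟨x, hxR, hxN, hxS, hxx⟩ := exists_sq_mem hR hSR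
    obtain ⟨g', -, h1⟩ := hcos x hxN hxS hxx
    refine ⟨g', ?_⟩
    have h2 := R.mul_mem hxR (hSR.le h1)
    simpa [mul_assoc] using h2

end

end Cfsg.Agent.SporRec.MaxFix
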