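import Mathlib
set_option linter.all false

-- part: SporRec/TCUpper
section
/-!
# Certified upper bounds for indices (static Todd-Coxeter certificates)

A group `G` acts on `X`; `x0 : X` is a base point (for an index: `X = G ⧸ H`, `x0 = H`).
A certificate is a set of *columns* `c < C` (each with a meaning `sem c : G`, usually a generator, `1` for a
"merge" column) and *nodes* `n < N`, together with a table `look c n`.
An entry `e = look c n ≠ 0` claims `sem c • val n = val (e &&& mB)`; here `val 0 = x0`.
The numerical value of the entry is at the same time a priority: an entry may only be justified by entries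
which are strictly larger as numbers.  There is no mutable state, so the certificate can be checked in
independent pieces (`chunks`).
-/

set_option autoImplicit false

namespace Cfsg.Agent.SporRec.TCUpper

/-! ### The functions evaluated by the kernel -/

/-- Follow the columns `ws` starting from node `m`, using only entries `> x`; the end must be `t`. -/
noncomputable def trace (look : ℕ → ℕ → ℕ) (mB x t : ℕ) (ws : List ℕ) : ℕ → Bool :=
  List.rec (motive := fun _ => ℕ → Bool) (fun m => Nat.beq m t)
    (fun c _ ih m => (fun e => Bool.rec (ih (Nat.land e mB)) false (Nat.ble e x)) (look c m)) ws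

theorem trace_nil (look : ℕ → ℕ → ℕ) (mB x t m : ℕ) : trace look mB x t [] m = Nat.beq m t := rfl

theorem trace_cons (look : ℕ → ℕ → ℕ) (mB x t m c : ℕ) (ws : List ℕ) :
    trace look mB x t (c :: ws) m =
      (Bool.rec (trace look mB x t ws (Nat.land (look c m) mB)) false (Nat.ble (look c m) x) : Bool) := rfl

/-- Run `chk` on the `cnt` positions packed in `P` (`b` bits each, `m = 2^b - 1`), add them to the mask `acc` and
continue with `k`. -/
noncomputable def loopL (b m : ℕ) (chk : ℕ → Bool) (k : ℕ → Bool) (cnt : ℕ) : ℕ → ℕ → Bool :=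
  Nat.rec (motive := fun _ => ℕ → ℕ → Bool) (fun _ acc => k acc)
    (fun _ ih P acc => (fun i => Bool.rec false (ih (Nat.shiftRight P b) (Nat.lor acc (Nat.shiftLeft 1 i))) (chk i))
      (Nat.land P m)) cnt

theorem loopL_zero (b m : ℕ) (chk k : ℕ → Bool) (P acc : ℕ) : loopL b m chk k 0 P acc = k acc := rfl

theorem loopL_succ (b m : ℕ) (chk k : ℕ → Bool) (cnt P acc : ℕ) : loopL b m chk k (cnt + 1) P acc =
    (Bool.rec false (loopL b m chk k cnt (Nat.shiftRight P b) (Nat.lor acc (Nat.shiftLeft 1 (Nat.land P m))))
      (chk (Nat.land P m)) : Bool) := rfl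

theorem bool_rec_false {b c : Bool} (h : (Bool.rec false c b : Bool) = true) : b = true ∧ c = true := by
  cases b
  · exact absurd h (by simp)
  · exact ⟨rfl, h⟩

theorem bool_rec_false' {b c : Bool} (h : (Bool.rec c false b : Bool) = true) : b = false ∧ c = true := by
  cases b
  · exact ⟨rfl, h⟩
  · exact absurd h (by simp)

theorem testBit_lor_shiftLeft {acc i j : ℕ} (h : (Nat.lor acc (Nat.shiftLeft 1 j)).testBit i = true) :
    acc.testBit i = true ∨ i = j := by
  have h' : (acc ||| (1 <<< j)).testBit i = true := h
  rw [Nat.testBit_lor, Bool.or_eq_true] at h'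
  rcases h' with h' | h'
  · exact Or.inl h'
  · rw [Nat.one_shiftLeft, Nat.testBit_two_pow] at h'
    exact Or.inr (by simpa [eq_comm] using h')

/-- After the loop: `k` has been called with a mask `acc'` whose new bits have passed the check. -/
theorem loopL_sound (b m : ℕ) (chk k : ℕ → Bool) (cnt : ℕ) : ∀ P acc : ℕ, loopL b m chk k cnt P acc = true →
    ∃ acc', k acc' = true ∧ ∀ i, acc'.testBit i = true → acc.testBit i = true ∨ chk i = true := by
  induction cnt with
  | zero =>
    intro P acc h
    exact ⟨acc, h, fun i hi => Or.inl hi⟩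
  | succ cnt ih =>
    intro P acc h
    rw [loopL_succ] at h
    obtain ⟨h1, h2⟩ := bool_rec_false h
    obtain ⟨acc', h3, h4⟩ := ih _ _ h2
    refine ⟨acc', h3, fun i hi => ?_⟩
    rcases h4 i hi with h5 | h5
    · rcases testBit_lor_shiftLeft h5 with h6 | h6
      · exact Or.inl h6
      · subst h6; exact Or.inr h1
    · exact Or.inr h5

/-- forward template: `n` goes to the target of `look c n` along `ws` -/
noncomputable def kFwd (look : ℕ → ℕ → ℕ) (mB lim c : ℕ) (ws : List ℕ) (n : ℕ) : Bool :=
  (fun x => (fun t => Bool.rec (trace look mB x t ws n) false (Nat.ble lim t)) (Nat.land x mB)) (look c n)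

/-- backward template: the target of `look c n` goes to `n` along `ws` -/
noncomputable def kBwd (look : ℕ → ℕ → ℕ) (mB lim c : ℕ) (ws : List ℕ) (n : ℕ) : Bool :=
  (fun x => (fun t => Bool.rec (trace look mB x n ws t) false (Nat.ble lim t)) (Nat.land x mB)) (look c n)

/-- template with direction -/
noncomputable def kTmp (look : ℕ → ℕ → ℕ) (mB lim c : ℕ) (d : Bool) (ws : List ℕ) (n : ℕ) : Bool :=
  Bool.rec (kBwd look mB lim c ws n) (kFwd look mB lim c ws n) d

/-- definition of the node `n`: the entry `look c n` points to an earlier node and `c` is the defining column -/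
noncomputable def kDef (look : ℕ → ℕ → ℕ) (mB lim : ℕ) (dcol : ℕ → ℕ) (c n : ℕ) : Bool :=
  (fun t => Bool.rec (Bool.rec (Nat.beq (dcol n) c) false (Nat.ble n t)) false (Nat.ble lim t))
    (Nat.land (look c n) mB)

/-- all templates of a column; `D` contains `(number, packed positions)` for each template; `acc` is the mask of the
positions treated so far (relative to `base`), `full` the mask of all positions of the chunk. -/
noncomputable def kCol (b m : ℕ) (look : ℕ → ℕ → ℕ) (mB lim base c full : ℕ) (T : List (Bool × List ℕ)) :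
    List (ℕ × ℕ) → ℕ → Bool :=
  List.rec (motive := fun _ => List (ℕ × ℕ) → ℕ → Bool)
    (fun _ acc => Nat.beq acc full)
    (fun t _ ih D acc => List.rec (motive := fun _ => Bool) false
      (fun d D' _ => Bool.rec false
        (loopL b m (fun i => kTmp look mB lim c t.1 t.2 (Nat.add base i)) (ih D') d.1 d.2 acc)
        (Nat.ble acc full)) D) T

/-- the column check.  `fl = 1` (only if `base = 0`): node `0` is fixed by this column; `abs`: absent entries
(number, positions); `dfn`: nodes defined through this column; `D`: the templates.  If `fin` there must be no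
absent entries. -/
noncomputable def kColumn (b m : ℕ) (look : ℕ → ℕ → ℕ) (mB lim : ℕ) (dcol : ℕ → ℕ) (fx : ℕ → Bool) (fin : Bool)
    (base full c : ℕ) (T : List (Bool × List ℕ))
    (fl : ℕ) (abs dfn : ℕ × ℕ) (D : List (ℕ × ℕ)) : Bool :=
  Bool.rec false
    (loopL b m (fun i => Bool.rec (Nat.beq (look c (Nat.add base i)) 0) false fin)
      (fun acc => loopL b m (fun i => kDef look mB lim dcol c (Nat.add base i))
        (fun acc => kCol b m look mB lim base c full T D acc) dfn.1 dfn.2 acc) abs.1 abs.2 fl)
    (Bool.rec (Bool.rec false (Bool.rec false (Bool.rec false (Nat.beq (Nat.land (look c 0) mB) 0)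
      (fx c)) (Nat.beq base 0)) (Nat.beq fl 1)) true (Nat.beq fl 0))

/-- all columns of a chunk.  The columns `c < finc` must be complete (no absent entries) and have all their targets
`< lim`; for the other columns there is no such condition. -/
noncomputable def kChunk (b m : ℕ) (look : ℕ → ℕ → ℕ) (mB finc lim : ℕ) (dcol : ℕ → ℕ) (fx : ℕ → Bool)
    (base full : ℕ) (TT : List (List (Bool × List ℕ))) :
    ℕ → List (ℕ × (ℕ × ℕ) × (ℕ × ℕ) × List (ℕ × ℕ)) → Bool :=
  List.rec (motive := fun _ => ℕ → List (ℕ × (ℕ × ℕ) × (ℕ × ℕ) × List (ℕ × ℕ)) → Bool)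
    (fun _ _ => true)
    (fun T _ ih c DD => List.rec (motive := fun _ => Bool) false
      (fun d DD' _ => Bool.rec false (ih (Nat.succ c) DD')
        (Bool.rec
          (kColumn b m look mB lim dcol fx true base full c T d.1 d.2.1 d.2.2.1 d.2.2.2)
          (kColumn b m look mB (Nat.succ mB) dcol fx false base full c T d.1 d.2.1 d.2.2.1 d.2.2.2)
          (Nat.ble finc c))) DD) TT

/-! ### Soundness of the chunk check -/

/-- The entry of column `c` at node `n` is justified. -/
inductive Good (look : ℕ → ℕ → ℕ) (mB : ℕ) (dcol : ℕ → ℕ) (fx : ℕ → Bool) (T : List (Bool × List ℕ))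
    (c n : ℕ) : Prop
  | dfn (h1 : dcol n = c) (h2 : Nat.land (look c n) mB < n) : Good look mB dcol fx T c n
  | fix (h1 : n = 0) (h2 : fx c = true) (h3 : Nat.land (look c n) mB = 0) : Good look mB dcol fx T c n
  | fwd (ws : List ℕ) (h1 : (true, ws) ∈ T)
      (h2 : trace look mB (look c n) (Nat.land (look c n) mB) ws n = true) : Good look mB dcol fx T c n
  | bwd (ws : List ℕ) (h1 : (false, ws) ∈ T)
      (h2 : trace look mB (look c n) n ws (Nat.land (look c n) mB) = true) : Good look mB dcol fx T c n

/-- what a chunk check gives for one entry -/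
def Ok (look : ℕ → ℕ → ℕ) (mB lim : ℕ) (dcol : ℕ → ℕ) (fx : ℕ → Bool) (fin : Bool) (T : List (Bool × List ℕ))
    (c n : ℕ) : Prop :=
  (Good look mB dcol fx T c n ∧ Nat.land (look c n) mB < lim) ∨ (fin = false ∧ look c n = 0)

theorem ble_false {a b : ℕ} (h : Nat.ble a b = false) : b < a := by
  by_contra hc
  have : Nat.ble a b = true := Nat.ble_eq_true_of_le (by omega)
  rw [this] at h
  exact absurd h (by simp)

variable {look : ℕ → ℕ → ℕ} {mB lim : ℕ} {dcol : ℕ → ℕ} {fx : ℕ → Bool} {fin : Bool}

theorem kFwd_sound {c n : ℕ} {ws : List ℕ} (h : kFwd look mB lim c ws n = true) :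
    trace look mB (look c n) (Nat.land (look c n) mB) ws n = true ∧ Nat.land (look c n) mB < lim := by
  have h' := bool_rec_false' h
  exact ⟨h'.2, ble_false h'.1⟩

theorem kBwd_sound {c n : ℕ} {ws : List ℕ} (h : kBwd look mB lim c ws n = true) :
    trace look mB (look c n) n ws (Nat.land (look c n) mB) = true ∧ Nat.land (look c n) mB < lim := by
  have h' := bool_rec_false' h
  exact ⟨h'.2, ble_false h'.1⟩

theorem kDef_sound {c n : ℕ} (h : kDef look mB lim dcol c n = true) :
    dcol n = c ∧ Nat.land (look c n) mB < n ∧ Nat.land (look c n) mB < lim := by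
  have h' := bool_rec_false' h
  have h'' := bool_rec_false' h'.2
  exact ⟨Nat.eq_of_beq_eq_true h''.2, ble_false h''.1, ble_false h'.1⟩

theorem kTmp_sound {c n : ℕ} {d : Bool} {ws : List ℕ} {T : List (Bool × List ℕ)} (hT : (d, ws) ∈ T)
    (h : kTmp look mB lim c d ws n = true) :
    Good look mB dcol fx T c n ∧ Nat.land (look c n) mB < lim := by
  cases d
  · have h' := kBwd_sound (look := look) (mB := mB) (lim := lim) (c := c) (n := n) (ws := ws) h
    exact ⟨Good.bwd ws hT h'.1, h'.2⟩
  · have h' := kFwd_sound (look := look) (mB := mB) (lim := lim) (c := c) (n := n) (ws := ws) h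
    exact ⟨Good.fwd ws hT h'.1, h'.2⟩

theorem kCol_sound {b m base c full : ℕ} {T0 : List (Bool × List ℕ)} (T : List (Bool × List ℕ)) :
    (∀ t ∈ T, t ∈ T0) → ∀ (D : List (ℕ × ℕ)) (acc : ℕ), kCol b m look mB lim base c full T D acc = true →
    ∀ i, full.testBit i = true → acc.testBit i = true ∨
      (Good look mB dcol fx T0 c (base + i) ∧ Nat.land (look c (base + i)) mB < lim) := by
  induction T with
  | nil =>
    intro _ D acc h i hi
    have h' : Nat.beq acc full = true := h
    have := Nat.eq_of_beq_eq_true h'
    subst this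
    exact Or.inl hi
  | cons t T ih =>
    intro hsub D acc h i hi
    cases D with
    | nil => exact absurd (show false = true from h) (by simp)
    | cons d D' =>
      have h' : (Bool.rec false
        (loopL b m (fun i => kTmp look mB lim c t.1 t.2 (Nat.add base i))
          (kCol b m look mB lim base c full T D') d.1 d.2 acc)
        (Nat.ble acc full) : Bool) = true := h
      obtain ⟨_, h2⟩ := bool_rec_false h'
      obtain ⟨acc', h3, h4⟩ := loopL_sound _ _ _ _ _ _ _ h2
      rcases ih (fun t ht => hsub t (List.mem_cons_of_mem _ ht)) D' _ h3 i hi with h5 | h5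
      · rcases h4 i h5 with h6 | h6
        · exact Or.inl h6
        · exact Or.inr (kTmp_sound (hsub (t.1, t.2) (List.mem_cons_self ..)) h6)
      · exact Or.inr h5

theorem kColumn_sound {b m base c full : ℕ} {T : List (Bool × List ℕ)} {fl : ℕ} {abs dfn : ℕ × ℕ}
    {D : List (ℕ × ℕ)} (hlim : 0 < lim)
    (h : kColumn b m look mB lim dcol fx fin base full c T fl abs dfn D = true) :
    ∀ i, full.testBit i = true → Ok look mB lim dcol fx fin T c (base + i) := by
  intro i hi
  obtain ⟨hfl, h⟩ := bool_rec_false h
  obtain ⟨acc1, h, habs⟩ := loopL_sound _ _ _ _ _ _ _ h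
  obtain ⟨acc2, h, hdfn⟩ := loopL_sound _ _ _ _ _ _ _ h
  rcases kCol_sound (dcol := dcol) (fx := fx) (T0 := T) T (fun t ht => ht) D _ h i hi with h3 | h3
  · rcases hdfn i h3 with h4 | h4
    · rcases habs i h4 with h5 | h5
      · -- fixed
        have hfl' : (Bool.rec (Bool.rec false (Bool.rec false (Bool.rec false
          (Nat.beq (Nat.land (look c 0) mB) 0)
            (fx c)) (Nat.beq base 0)) (Nat.beq fl 1)) true (Nat.beq fl 0) : Bool) = true := hfl
        cases hfl0 : Nat.beq fl 0 with
        | true =>
          have := Nat.eq_of_beq_eq_true hfl0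
          subst this
          simp at h5
        | false =>
          rw [hfl0] at hfl'
          obtain ⟨g1, g2⟩ := bool_rec_false hfl'
          obtain ⟨g3, g4⟩ := bool_rec_false g2
          obtain ⟨g5, g6⟩ := bool_rec_false g4
          have e1 := Nat.eq_of_beq_eq_true g1
          have e2 := Nat.eq_of_beq_eq_true g3
          have e3 := Nat.eq_of_beq_eq_true g6
          subst e1 e2
          have hi0 : i = 0 := by
            by_contra hne
            have : (1 : ℕ) < 2 ^ i := Nat.one_lt_two_pow hne
            rw [Nat.testBit_lt_two_pow this] at h5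
            exact absurd h5 (by simp)
          subst hi0
          left
          refine ⟨Good.fix rfl g5 e3, ?_⟩
          show Nat.land (look c 0) mB < lim
          rw [e3]; exact hlim
      · -- absent
        cases fin with
        | false => exact Or.inr ⟨rfl, Nat.eq_of_beq_eq_true h5⟩
        | true => exact absurd (show false = true from h5) (by simp)
    · have h6 := kDef_sound (look := look) (mB := mB) (lim := lim) (dcol := dcol) (c := c) (n := base + i) h4
      exact Or.inl ⟨Good.dfn h6.1 h6.2.1, h6.2.2⟩
  · exact Or.inl h3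

theorem kChunk_sound {b m finc base full : ℕ} (hlim : 0 < lim) (TT : List (List (Bool × List ℕ))) :
    ∀ (c0 : ℕ) (DD : List (ℕ × (ℕ × ℕ) × (ℕ × ℕ) × List (ℕ × ℕ))),
    kChunk b m look mB finc lim dcol fx base full TT c0 DD = true →
    ∀ k (hk : k < TT.length), ∀ i, full.testBit i = true →
      (look (c0 + k) (base + i) ≠ 0 → Good look mB dcol fx (TT[k]) (c0 + k) (base + i)) ∧
      (c0 + k < finc → Good look mB dcol fx (TT[k]) (c0 + k) (base + i) ∧
        Nat.land (look (c0 + k) (base + i)) mB < lim) := by
  induction TT with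
  | nil => intro c0 DD _ k hk; exact absurd hk (by simp)
  | cons T TT ih =>
    intro c0 DD h k hk i hi
    cases DD with
    | nil => exact absurd (show false = true from h) (by simp)
    | cons d DD' =>
      have h' : (Bool.rec false (kChunk b m look mB finc lim dcol fx base full TT (Nat.succ c0) DD')
        (Bool.rec
          (kColumn b m look mB lim dcol fx true base full c0 T d.1 d.2.1 d.2.2.1 d.2.2.2)
          (kColumn b m look mB (Nat.succ mB) dcol fx false base full c0 T d.1 d.2.1 d.2.2.1 d.2.2.2)
          (Nat.ble finc c0)) : Bool) = true := h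
      obtain ⟨h1, h2⟩ := bool_rec_false h'
      cases k with
      | zero =>
        cases hf : Nat.ble finc c0 with
        | false =>
          rw [hf] at h1
          have h3 := kColumn_sound hlim h1 i hi
          rcases h3 with h4 | h4
          · exact ⟨fun _ => h4.1, fun _ => h4⟩
          · exact absurd h4.1 (by simp)
        | true =>
          rw [hf] at h1
          have h3 := kColumn_sound (Nat.succ_pos mB) h1 i hi
          have hge : finc ≤ c0 := Nat.le_of_ble_eq_true hf
          refine ⟨fun hne => ?_, fun hlt => absurd hlt (by simpa using hge)⟩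
          rcases h3 with h4 | h4
          · exact h4.1
          · exact absurd h4.2 hne
      | succ k =>
        have := ih (Nat.succ c0) DD' h2 k (by simpa using hk) i hi
        have e : c0 + (k + 1) = Nat.succ c0 + k := by omega
        rw [e]
        exact this

/-! ### Semantics -/

section semantics

variable {G X : Type*} [Group G] [MulAction G X]

/-- The group element of a word of columns (the first column acts first). -/
def wordSem (sem : ℕ → G) : List ℕ → G
  | [] => 1
  | c :: ws => wordSem sem ws * sem c

theorem wordSem_nil (sem : ℕ → G) : wordSem sem [] = 1 := rfl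
theorem wordSem_cons (sem : ℕ → G) (c : ℕ) (ws : List ℕ) : wordSem sem (c :: ws) = wordSem sem ws * sem c := rfl

theorem wordSem_append (sem : ℕ → G) (u v : List ℕ) : wordSem sem (u ++ v) = wordSem sem v * wordSem sem u := by
  induction u with
  | nil => simp [wordSem_nil]
  | cons c u ih => rw [List.cons_append, wordSem_cons, ih, wordSem_cons, mul_assoc]

/-- the element of `X` attached to a node -/
noncomputable def val (look : ℕ → ℕ → ℕ) (mB : ℕ) (dcol : ℕ → ℕ) (sem : ℕ → G) (x0 : X) (n : ℕ) : X :=
  if h : Nat.land (look (dcol n) n) mB < n then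
    (sem (dcol n))⁻¹ • val look mB dcol sem x0 (Nat.land (look (dcol n) n) mB)
  else x0
termination_by n
decreasing_by exact h

theorem val_zero (sem : ℕ → G) (x0 : X) : val look mB dcol sem x0 0 = x0 := by
  rw [val, dif_neg (by omega)]

theorem val_dfn (sem : ℕ → G) (x0 : X) {n : ℕ} (h : Nat.land (look (dcol n) n) mB < n) :
    sem (dcol n) • val look mB dcol sem x0 n = val look mB dcol sem x0 (Nat.land (look (dcol n) n) mB) := by
  conv_lhs => rw [val, dif_pos h]
  rw [smul_inv_smul]

theorem trace_sound (sem : ℕ → G) (vl : ℕ → X) {x t : ℕ}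
    (hx : ∀ c m, x < look c m → sem c • vl m = vl (Nat.land (look c m) mB)) (ws : List ℕ) :
    ∀ m, trace look mB x t ws m = true → wordSem sem ws • vl m = vl t := by
  induction ws with
  | nil =>
    intro m h
    rw [trace_nil] at h
    have := Nat.eq_of_beq_eq_true h
    subst this
    rw [wordSem_nil, one_smul]
  | cons c ws ih =>
    intro m h
    rw [trace_cons] at h
    obtain ⟨h1, h2⟩ := bool_rec_false' h
    rw [wordSem_cons, mul_smul, hx c m (ble_false h1)]
    exact ih _ h2

/-- All entries of a certificate are true. -/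
theorem valid (sem : ℕ → G) (x0 : X) {TT : ℕ → List (Bool × List ℕ)} {M : ℕ}
    (hM : ∀ c n, look c n ≤ M)
    (hgood : ∀ c n, look c n ≠ 0 → Good look mB dcol fx (TT c) c n)
    (hfx : ∀ c, fx c = true → sem c • x0 = x0)
    (hfwd : ∀ c ws, (true, ws) ∈ TT c → wordSem sem ws = sem c)
    (hbwd : ∀ c ws, (false, ws) ∈ TT c → wordSem sem ws = (sem c)⁻¹) :
    ∀ c n, Good look mB dcol fx (TT c) c n →
      sem c • val look mB dcol sem x0 n = val look mB dcol sem x0 (Nat.land (look c n) mB) := by
  have key : ∀ k, ∀ c n, M - look c n = k → Good look mB dcol fx (TT c) c n →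
      sem c • val look mB dcol sem x0 n = val look mB dcol sem x0 (Nat.land (look c n) mB) := by
    intro k
    induction k using Nat.strong_induction_on with
    | _ k ih =>
      intro c n hk hg
      have hx : ∀ c' m, look c n < look c' m →
          sem c' • val look mB dcol sem x0 m = val look mB dcol sem x0 (Nat.land (look c' m) mB) := by
        intro c' m hlt
        refine ih (M - look c' m) ?_ c' m rfl (hgood c' m (by omega))
        have := hM c' m
        omega
      cases hg with
      | dfn h1 h2 =>
        subst h1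
        exact val_dfn sem x0 h2
      | fix h1 h2 h3 =>
        subst h1
        rw [h3, val_zero]
        exact hfx c h2
      | fwd ws h1 h2 =>
        have := trace_sound sem (val look mB dcol sem x0) hx ws n h2
        rw [hfwd c ws h1] at this
        exact this
      | bwd ws h1 h2 =>
        have := trace_sound sem (val look mB dcol sem x0) hx ws _ h2
        rw [hbwd c ws h1] at this
        rw [← this, smul_inv_smul]
  intro c n hg
  exact key _ c n rfl hg

/-- The orbit of the base point under the group generated by the elements `sem c`, `c ∈ cols`, is contained in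
the set of the first `nf` nodes. -/
theorem orbit_le (x0 : X) (vl : ℕ → X) (h0 : vl 0 = x0) {nf : ℕ} (hnf : 0 < nf) (S : Set G)
    (hS : ∀ s ∈ S, ∀ n < nf, ∃ m < nf, s • vl n = vl m) :
    ∀ g ∈ Subgroup.closure S, ∃ m < nf, g • x0 = vl m := by
  classical
  -- the finite set of values
  let A : Finset X := (Finset.range nf).image vl
  have hA : ∀ x, x ∈ A ↔ ∃ m < nf, vl m = x := by
    intro x; simp [A]
  have hmap : ∀ s ∈ S, ∀ x ∈ A, s • x ∈ A := by
    intro s hs x hx
    obtain ⟨n, hn, rfl⟩ := (hA x).1 hx
    obtain ⟨m, hm, e⟩ := hS s hs n hn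
    exact (hA _).2 ⟨m, hm, e.symm⟩
  have hinv : ∀ s ∈ S, ∀ x ∈ A, s⁻¹ • x ∈ A := by
    intro s hs x hx
    have hinj : Set.InjOn (fun y : X => s • y) A := fun a _ b _ h => smul_left_cancel s h
    have himg : A.image (fun y => s • y) = A := by
      apply Finset.eq_of_subset_of_card_le
      · intro y hy
        obtain ⟨z, hz, rfl⟩ := Finset.mem_image.1 hy
        exact hmap s hs z hz
      · rw [Finset.card_image_of_injOn hinj]
    rw [← himg] at hx
    obtain ⟨z, hz, hzx⟩ := Finset.mem_image.1 hx
    rw [← hzx]
    simpa using hz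
  have hall : ∀ g ∈ Subgroup.closure S, ∀ x ∈ A, g • x ∈ A := by
    intro g hg
    induction hg using Subgroup.closure_induction'' with
    | mem x hx => exact hmap x hx
    | inv_mem x hx => exact hinv x hx
    | one => intro x hx; simpa using hx
    | mul g h _ _ ihg ihh => intro x hx; rw [mul_smul]; exact ihg _ (ihh _ hx)
  intro g hg
  have hx0 : x0 ∈ A := (hA x0).2 ⟨0, hnf, h0⟩
  obtain ⟨m, hm, e⟩ := (hA _).1 (hall g hg x0 hx0)
  exact ⟨m, hm, e.symm⟩

/-- Index form of `orbit_le`. -/
theorem relIndex_le (H K : Subgroup G) (vl : ℕ → G ⧸ H) {nf : ℕ}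
    (h : ∀ g ∈ K, ∃ m < nf, g • ((1 : G) : G ⧸ H) = vl m) : H.relIndex K ≤ nf ∧ H.relIndex K ≠ 0 := by
  classical
  have hst : MulAction.stabilizer K ((1 : G) : G ⧸ H) = H.subgroupOf K := by
    ext k
    rw [MulAction.mem_stabilizer_iff, Subgroup.mem_subgroupOf]
    change ((k : G) • ((1 : G) : G ⧸ H)) = _ ↔ _
    rw [MulAction.Quotient.smul_coe, QuotientGroup.eq]
    simp
  have hidx : H.relIndex K = (MulAction.orbit K ((1 : G) : G ⧸ H)).ncard := by
    rw [Subgroup.relIndex, ← hst, MulAction.index_stabilizer]
  have hsub : MulAction.orbit K ((1 : G) : G ⧸ H) ⊆ ((Finset.range nf).image vl : Finset (G ⧸ H)) := by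
    rintro _ ⟨k, rfl⟩
    obtain ⟨m, hm, e⟩ := h k k.2
    simp only [Finset.coe_image, Finset.coe_range, Set.mem_image, Set.mem_Iio]
    exact ⟨m, hm, e.symm⟩
  rw [hidx]
  have hfin : (MulAction.orbit K ((1 : G) : G ⧸ H)).Finite := Set.Finite.subset (Finset.finite_toSet _) hsub
  refine ⟨?_, ?_⟩
  · calc _ ≤ (((Finset.range nf).image vl : Finset (G ⧸ H)) : Set (G ⧸ H)).ncard :=
          Set.ncard_le_ncard hsub (Finset.finite_toSet _)
      _ ≤ nf := by
          rw [Set.ncard_coe_finset]
          exact le_trans Finset.card_image_le (by simp)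
  · intro h0
    rw [Set.ncard_eq_zero hfin] at h0
    have : ((1 : G) : G ⧸ H) ∈ MulAction.orbit K ((1 : G) : G ⧸ H) := MulAction.mem_orbit_self _
    rw [h0] at this
    exact this

end semantics

end Cfsg.Agent.SporRec.TCUpper
end

-- part: SporRec/TCUpperCert
section
/-!
# Packaging of the static Todd-Coxeter certificates

Letters `0, 1, ..` denote the elements of a list `gl : List G` (letters `≥ gl.length` denote `1`), words are lists of
letters in natural (product) order.  Columns carry letters via `lab : List ℕ`.
-/

set_option autoImplicit false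

namespace Cfsg.Agent.SporRec.TCUpperCert

open Cfsg.Agent.SporRec.TCUpper

/-! ### kernel functions -/

/-- list lookup with default `0` -/
noncomputable def nth (l : List ℕ) : ℕ → ℕ :=
  List.rec (motive := fun _ => ℕ → ℕ) (fun _ => 0) (fun a _ ih n => Nat.rec a (fun m _ => ih m) n) l

theorem nth_nil (n : ℕ) : nth [] n = 0 := rfl
theorem nth_cons_zero (a : ℕ) (l : List ℕ) : nth (a :: l) 0 = a := rfl
theorem nth_cons_succ (a : ℕ) (l : List ℕ) (n : ℕ) : nth (a :: l) (n + 1) = nth l n := rfl

/-- membership test -/
noncomputable def memb (l : List ℕ) (a : ℕ) : Bool :=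
  List.rec (motive := fun _ => Bool) false (fun b _ ih => Bool.rec ih true (Nat.beq a b)) l

theorem memb_sound (l : List ℕ) (a : ℕ) (h : memb l a = true) : a ∈ l := by
  induction l with
  | nil => exact absurd (show false = true from h) (by simp)
  | cons b l ih =>
    have h' : (Bool.rec (memb l a) true (Nat.beq a b) : Bool) = true := h
    cases hb : Nat.beq a b with
    | true => rw [Nat.eq_of_beq_eq_true hb]; exact List.mem_cons_self ..
    | false => rw [hb] at h'; exact List.mem_cons_of_mem _ (ih h')

/-- flat packed tables: one number per column, `W` bits per entry -/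
noncomputable def lookF (tabs : List ℕ) (W mW c n : ℕ) : ℕ :=
  Nat.land (Nat.shiftRight (nth tabs c) (Nat.mul W n)) mW

/-- all tables have less than `b` bits -/
noncomputable def bitsLt (b : ℕ) (tabs : List ℕ) : Bool :=
  List.rec (motive := fun _ => Bool) true (fun T _ ih => Bool.rec false ih (Nat.beq (Nat.shiftRight T b) 0)) tabs

theorem nth_lt_of_bitsLt {b : ℕ} (tabs : List ℕ) (h : bitsLt b tabs = true) :
    ∀ c, nth tabs c < 2 ^ b := by
  induction tabs with
  | nil => intro c; rw [nth_nil]; positivity
  | cons T tabs ih =>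
    have h' : (Bool.rec false (bitsLt b tabs) (Nat.beq (Nat.shiftRight T b) 0) : Bool) = true := h
    obtain ⟨h1, h2⟩ := bool_rec_false h'
    intro c
    cases c with
    | zero =>
      rw [nth_cons_zero]
      have h3 : T >>> b = 0 := Nat.eq_of_beq_eq_true h1
      rw [Nat.shiftRight_eq_div_pow] at h3
      exact (Nat.div_eq_zero_iff_lt (by positivity)).1 h3
    | succ c => rw [nth_cons_succ]; exact ih h2 c

theorem nth_eq_zero_of_length_le (l : List ℕ) : ∀ n, l.length ≤ n → nth l n = 0 := by
  induction l with
  | nil => intro n _; rfl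
  | cons a l ih =>
    intro n hn
    cases n with
    | zero => simp at hn
    | succ n => rw [nth_cons_succ]; exact ih n (by simpa using hn)

theorem lookF_le (tabs : List ℕ) (W mW c n : ℕ) : lookF tabs W mW c n ≤ mW := by
  change (_ &&& mW) ≤ mW
  exact Nat.and_le_right

theorem lookF_ne_zero {tabs : List ℕ} {W mW N : ℕ} (h : bitsLt (W * N) tabs = true) (c n : ℕ)
    (hne : lookF tabs W mW c n ≠ 0) : c < tabs.length ∧ n < N := by
  constructor
  · by_contra hc
    apply hne
    have : nth tabs c = 0 := nth_eq_zero_of_length_le tabs c (by omega)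
    change ((nth tabs c >>> (W * n)) &&& mW) = 0
    rw [this]; simp
  · by_contra hc
    apply hne
    have h1 := nth_lt_of_bitsLt tabs h c
    have h2 : nth tabs c < 2 ^ (W * n) :=
      lt_of_lt_of_le h1 (Nat.pow_le_pow_right (by norm_num) (Nat.mul_le_mul_left _ (by omega)))
    change ((nth tabs c >>> (W * n)) &&& mW) = 0
    rw [Nat.shiftRight_eq_div_pow, Nat.div_eq_of_lt h2]; simp

/-! ### words and relators -/

section words

variable {G : Type*} [Group G]

/-- value of a letter -/
def lv (gl : List G) (a : ℕ) : G := gl.getD a 1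

/-- value of a word (natural product order) -/
def wprod (gl : List G) (w : List ℕ) : G := (w.map (lv gl)).prod

theorem wprod_nil (gl : List G) : wprod gl [] = 1 := rfl
theorem wprod_cons (gl : List G) (a : ℕ) (w : List ℕ) : wprod gl (a :: w) = lv gl a * wprod gl w := by
  simp [wprod]
theorem wprod_append (gl : List G) (u v : List ℕ) : wprod gl (u ++ v) = wprod gl u * wprod gl v := by
  simp [wprod]

theorem lv_of_ge (gl : List G) (a : ℕ) (h : gl.length ≤ a) : lv gl a = 1 := by
  rw [lv]; exact List.getD_eq_default _ _ h

/-- prefix test -/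
noncomputable def prefixb (v : List ℕ) : List ℕ → Bool :=
  List.rec (motive := fun _ => List ℕ → Bool) (fun _ => true)
    (fun a _ ih t => List.rec (motive := fun _ => Bool) false
      (fun b t' _ => Bool.rec false (ih t') (Nat.beq a b)) t) v

theorem prefixb_sound (v : List ℕ) : ∀ t, prefixb v t = true → ∃ s, t = v ++ s := by
  induction v with
  | nil => intro t _; exact ⟨t, rfl⟩
  | cons a v ih =>
    intro t h
    cases t with
    | nil => exact absurd (show false = true from h) (by simp)
    | cons b t =>
      have h' : (Bool.rec false (prefixb v t) (Nat.beq a b) : Bool) = true := h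
      obtain ⟨h1, h2⟩ := bool_rec_false h'
      obtain ⟨s, rfl⟩ := ih t h2
      rw [Nat.eq_of_beq_eq_true h1]
      exact ⟨s, rfl⟩

/-- prefix of one of the first `n` tails -/
noncomputable def anyTail (v : List ℕ) (n : ℕ) : List ℕ → Bool :=
  Nat.rec (motive := fun _ => List ℕ → Bool) (fun _ => false)
    (fun _ ih t => Bool.rec (ih t.tail) true (prefixb v t)) n

theorem anyTail_sound (v : List ℕ) (n : ℕ) : ∀ t, anyTail v n t = true → ∃ k < n, ∃ s, t.drop k = v ++ s := by
  induction n with
  | zero => intro t h; exact absurd (show false = true from h) (by simp)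
  | succ n ih =>
    intro t h
    have h' : (Bool.rec (anyTail v n t.tail) true (prefixb v t) : Bool) = true := h
    cases hp : prefixb v t with
    | true =>
      obtain ⟨s, hs⟩ := prefixb_sound v t hp
      exact ⟨0, by omega, s, by simpa using hs⟩
    | false =>
      rw [hp] at h'
      obtain ⟨k, hk, s, hs⟩ := ih t.tail h'
      refine ⟨k + 1, by omega, s, ?_⟩
      rw [← hs, List.drop_tail]

/-- `v` is a rotation of `r` -/
noncomputable def isRot (v r : List ℕ) : Bool :=
  Bool.rec false (anyTail v r.length (r ++ r)) (Nat.beq v.length r.length)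

theorem isRot_sound (gl : List G) (v r : List ℕ) (h : isRot v r = true) (hr : wprod gl r = 1) :
    wprod gl v = 1 := by
  obtain ⟨h1, h2⟩ := bool_rec_false h
  have hlen := Nat.eq_of_beq_eq_true h1
  obtain ⟨k, hk, s, hs⟩ := anyTail_sound v _ _ h2
  rw [List.drop_append_of_le_length (by omega)] at hs
  have e : r.drop k ++ r = (r.drop k ++ r.take k) ++ r.drop k := by
    rw [List.append_assoc, List.take_append_drop]
  rw [e] at hs
  have hv : r.drop k ++ r.take k = v := by
    apply List.append_inj_left hs
    rw [hlen]; simp; omega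
  rw [← hv, wprod_append]
  rw [← List.take_append_drop k r, wprod_append] at hr
  exact mul_eq_one_comm.1 hr

/-- some element of the list of relators rotates to `v` -/
noncomputable def anyRot (v : List ℕ) (rels : List (List ℕ)) : Bool :=
  List.rec (motive := fun _ => Bool) false (fun r _ ih => Bool.rec ih true (isRot v r)) rels

theorem anyRot_sound (gl : List G) (v : List ℕ) (rels : List (List ℕ)) (h : anyRot v rels = true)
    (hr : ∀ r ∈ rels, wprod gl r = 1) : wprod gl v = 1 := by
  induction rels with
  | nil => exact absurd (show false = true from h) (by simp)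
  | cons r rels ih =>
    have h' : (Bool.rec (anyRot v rels) true (isRot v r) : Bool) = true := h
    cases hp : isRot v r with
    | true => exact isRot_sound gl v r hp (hr r (List.mem_cons_self ..))
    | false => rw [hp] at h'; exact ih h' (fun r' hr' => hr r' (List.mem_cons_of_mem _ hr'))

/-- inverse word -/
noncomputable def invw (inv : List ℕ) (w : List ℕ) : List ℕ := (w.map (nth inv)).reverse

theorem wprod_invw (gl : List G) (inv : List ℕ) (w : List ℕ)
    (hinv : ∀ a ∈ w, lv gl a * lv gl (nth inv a) = 1) : wprod gl (invw inv w) = (wprod gl w)⁻¹ := by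
  induction w with
  | nil => simp [invw, wprod_nil]
  | cons a w ih =>
    have h1 : invw inv (a :: w) = invw inv w ++ [nth inv a] := by simp [invw]
    rw [h1, wprod_append, ih (fun b hb => hinv b (List.mem_cons_of_mem _ hb)), wprod_cons, wprod_cons, wprod_nil,
      mul_inv_rev, mul_one, inv_eq_of_mul_eq_one_right (hinv a (List.mem_cons_self ..))]

/-- remove the letters `≥ L` -/
noncomputable def strip (L : ℕ) (w : List ℕ) : List ℕ :=
  List.rec (motive := fun _ => List ℕ) [] (fun a _ ih => Bool.rec (a :: ih) ih (Nat.ble L a)) w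

theorem wprod_strip (gl : List G) (w : List ℕ) : wprod gl (strip gl.length w) = wprod gl w := by
  induction w with
  | nil => rfl
  | cons a w ih =>
    have h' : strip gl.length (a :: w) =
      (Bool.rec (a :: strip gl.length w) (strip gl.length w) (Nat.ble gl.length a) : List ℕ) := rfl
    rw [h', wprod_cons]
    cases hb : Nat.ble gl.length a with
    | true => rw [lv_of_ge gl a (Nat.le_of_ble_eq_true hb), one_mul]; exact ih
    | false => change wprod gl (a :: strip gl.length w) = _; rw [wprod_cons, ih]

/-- `v` is empty or `[a, a⁻¹]` or a rotation of a relator -/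
noncomputable def triv (L : ℕ) (inv : List ℕ) (rels : List (List ℕ)) (v : List ℕ) : Bool :=
  List.rec (motive := fun _ => Bool) true
    (fun a v' _ => List.rec (motive := fun _ => Bool) false
      (fun b v'' _ => List.rec (motive := fun _ => Bool)
        (Bool.rec (anyRot v rels) (Nat.blt a L) (Nat.beq b (nth inv a)))
        (fun _ _ _ => anyRot v rels) v'') v') v

theorem triv_sound (gl : List G) (inv : List ℕ) (rels : List (List ℕ)) (v : List ℕ)
    (hinv : ∀ a < gl.length, lv gl a * lv gl (nth inv a) = 1)
    (hr : ∀ r ∈ rels, wprod gl r = 1) (h : triv gl.length inv rels v = true) : wprod gl v = 1 := by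
  match v, h with
  | [], _ => rfl
  | [a], h => exact absurd (show false = true from h) (by simp)
  | [a, b], h =>
    have h' : (Bool.rec (anyRot [a, b] rels) (Nat.blt a gl.length) (Nat.beq b (nth inv a)) : Bool) = true := h
    cases hb : Nat.beq b (nth inv a) with
    | true =>
      rw [hb] at h'
      have hlt : a < gl.length := by
        have : Nat.blt a gl.length = true := h'
        simpa [Nat.blt_eq] using this
      rw [wprod_cons, wprod_cons, wprod_nil, mul_one, Nat.eq_of_beq_eq_true hb]
      exact hinv a hlt
    | false => rw [hb] at h'; exact anyRot_sound gl _ rels h' hr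
  | a :: b :: c :: v, h => exact anyRot_sound gl _ rels h hr

/-- semantic check of one template of a column with letter `a` -/
noncomputable def tOK (L : ℕ) (inv lab : List ℕ) (rels : List (List ℕ)) (a : ℕ) (d : Bool) (ws : List ℕ) : Bool :=
  Bool.rec (triv L inv rels (strip L (ws.map (nth lab) ++ [a])))
    (Bool.rec (triv L inv rels (strip L (ws.map (nth lab)) ++ [nth inv a]))
      (triv L inv rels (strip L (ws.map (nth lab)))) (Nat.ble L a)) d

theorem tOK_sound (gl : List G) (inv lab : List ℕ) (rels : List (List ℕ)) (a : ℕ) (d : Bool) (ws : List ℕ)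
    (hinv : ∀ a < gl.length, lv gl a * lv gl (nth inv a) = 1)
    (hr : ∀ r ∈ rels, wprod gl r = 1) (h : tOK gl.length inv lab rels a d ws = true) :
    (d = true → wprod gl (ws.map (nth lab)) = lv gl a) ∧
    (d = false → wprod gl (ws.map (nth lab)) = (lv gl a)⁻¹) := by
  cases d with
  | false =>
    refine ⟨fun h => absurd h (by simp), fun _ => ?_⟩
    have h' : triv gl.length inv rels (strip gl.length (ws.map (nth lab) ++ [a])) = true := h
    have := triv_sound gl inv rels _ hinv hr h'
    rw [wprod_strip, wprod_append, wprod_cons, wprod_nil, mul_one] at this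
    exact eq_inv_of_mul_eq_one_left this
  | true =>
    refine ⟨fun _ => ?_, fun h => absurd h (by simp)⟩
    have h' : (Bool.rec (triv gl.length inv rels (strip gl.length (ws.map (nth lab)) ++ [nth inv a]))
      (triv gl.length inv rels (strip gl.length (ws.map (nth lab)))) (Nat.ble gl.length a) : Bool) = true := h
    cases hb : Nat.ble gl.length a with
    | true =>
      rw [hb] at h'
      have := triv_sound gl inv rels _ hinv hr h'
      rw [wprod_strip] at this
      rw [this, lv_of_ge gl a (Nat.le_of_ble_eq_true hb)]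
    | false =>
      rw [hb] at h'
      have := triv_sound gl inv rels _ hinv hr h'
      rw [wprod_append, wprod_strip, wprod_cons, wprod_nil, mul_one] at this
      have h2 := hinv a (ble_false hb)
      have h3 : lv gl (nth inv a) = (lv gl a)⁻¹ := eq_inv_of_mul_eq_one_right h2
      rw [h3] at this
      exact mul_inv_eq_one.1 this

/-- all letters are `< L` -/
noncomputable def ltAll (L : ℕ) (w : List ℕ) : Bool :=
  List.rec (motive := fun _ => Bool) true (fun a _ ih => Bool.rec ih false (Nat.ble L a)) w

theorem ltAll_sound (L : ℕ) (w : List ℕ) (h : ltAll L w = true) : ∀ a ∈ w, a < L := by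
  induction w with
  | nil => intro a h; exact absurd h (by simp)
  | cons b w ih =>
    obtain ⟨h1, h2⟩ := bool_rec_false' h
    intro a ha
    rcases List.mem_cons.1 ha with e | e
    · rw [e]; exact ble_false h1
    · exact ih h2 a e

/-- the relators followed by their inverses (only those with all letters `< L`) -/
noncomputable def withInv (L : ℕ) (inv : List ℕ) (rels : List (List ℕ)) : List (List ℕ) :=
  List.rec (motive := fun _ => List (List ℕ)) []
    (fun r _ ih => r :: Bool.rec ih (invw inv r :: ih) (ltAll L r)) rels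

theorem withInv_sound (gl : List G) (inv : List ℕ) (rels : List (List ℕ))
    (hinv : ∀ a < gl.length, lv gl a * lv gl (nth inv a) = 1)
    (hr : ∀ r ∈ rels, wprod gl r = 1) : ∀ r ∈ withInv gl.length inv rels, wprod gl r = 1 := by
  induction rels with
  | nil => intro r h; exact absurd h (by simp [withInv])
  | cons r rels ih =>
    have ih' := ih (fun r' h' => hr r' (List.mem_cons_of_mem _ h'))
    have e : withInv gl.length inv (r :: rels) =
      r :: (Bool.rec (withInv gl.length inv rels) (invw inv r :: withInv gl.length inv rels)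
        (ltAll gl.length r) : List (List ℕ)) := rfl
    intro r' h'
    rw [e] at h'
    have hr0 := hr r (List.mem_cons_self ..)
    rcases List.mem_cons.1 h' with h1 | h1
    · rw [h1]; exact hr0
    · cases hb : ltAll gl.length r with
      | false => rw [hb] at h1; exact ih' r' h1
      | true =>
        rw [hb] at h1
        rcases List.mem_cons.1 h1 with h2 | h2
        · rw [h2, wprod_invw gl inv r (fun a ha => hinv a (ltAll_sound _ _ hb a ha)), hr0, inv_one]
        · exact ih' r' h2

/-- semantic check of the templates of one column -/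
noncomputable def tsOK (L : ℕ) (inv lab : List ℕ) (rels : List (List ℕ)) (a : ℕ) (T : List (Bool × List ℕ)) : Bool :=
  List.rec (motive := fun _ => Bool) true (fun t _ ih => Bool.rec false ih (tOK L inv lab rels a t.1 t.2)) T

theorem tsOK_sound (L : ℕ) (inv lab : List ℕ) (rels : List (List ℕ)) (a : ℕ) (T : List (Bool × List ℕ))
    (h : tsOK L inv lab rels a T = true) : ∀ d ws, (d, ws) ∈ T → tOK L inv lab rels a d ws = true := by
  induction T with
  | nil => intro d ws h; exact absurd h (by simp)
  | cons t T ih =>
    have h' : (Bool.rec false (tsOK L inv lab rels a T) (tOK L inv lab rels a t.1 t.2) : Bool) = true := h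
    obtain ⟨h1, h2⟩ := bool_rec_false h'
    intro d ws hm
    rcases List.mem_cons.1 hm with e | e
    · rw [← e] at h1; exact h1
    · exact ih h2 d ws e

/-- semantic check of all templates -/
noncomputable def allOK (L : ℕ) (inv lab : List ℕ) (rels : List (List ℕ)) (TT : List (List (Bool × List ℕ))) :
    ℕ → Bool :=
  List.rec (motive := fun _ => ℕ → Bool) (fun _ => true)
    (fun T _ ih c => Bool.rec false (ih (Nat.succ c)) (tsOK L inv lab rels (nth lab c) T)) TT

theorem allOK_sound (L : ℕ) (inv lab : List ℕ) (rels : List (List ℕ)) (TT : List (List (Bool × List ℕ))) :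
    ∀ c0, allOK L inv lab rels TT c0 = true → ∀ k, ∀ d ws, (d, ws) ∈ TT.getD k [] →
      tOK L inv lab rels (nth lab (c0 + k)) d ws = true := by
  induction TT with
  | nil => intro c0 _ k d ws h; simp at h
  | cons T TT ih =>
    intro c0 h k d ws hm
    have h' : (Bool.rec false (allOK L inv lab rels TT (Nat.succ c0)) (tsOK L inv lab rels (nth lab c0) T) : Bool)
      = true := h
    obtain ⟨h1, h2⟩ := bool_rec_false h'
    cases k with
    | zero => exact tsOK_sound L inv lab rels _ T h1 d ws (by simpa using hm)
    | succ k =>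
      have := ih (Nat.succ c0) h2 k d ws (by simpa using hm)
      have e : c0 + (k + 1) = Nat.succ c0 + k := by omega
      rw [e]; exact this

/-- meaning of a column (acting on left cosets) -/
noncomputable def semc (gl : List G) (lab : List ℕ) (c : ℕ) : G := (lv gl (nth lab c))⁻¹

theorem wordSem_semc (gl : List G) (lab : List ℕ) (ws : List ℕ) :
    wordSem (semc gl lab) ws = (wprod gl (ws.map (nth lab)))⁻¹ := by
  induction ws with
  | nil => simp [wordSem_nil, wprod_nil]
  | cons c ws ih => rw [wordSem_cons, ih, List.map_cons, wprod_cons, mul_inv_rev]; rfl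

end words

/-! ### Ranges of nodes -/

/-- The check has been done for the nodes `a ≤ n < b`. -/
def RangeOk (look : ℕ → ℕ → ℕ) (mB finc lim : ℕ) (dcol : ℕ → ℕ) (fx : ℕ → Bool)
    (TT : List (List (Bool × List ℕ))) (a b : ℕ) : Prop :=
  ∀ n, a ≤ n → n < b → ∀ c, c < TT.length →
    (look c n ≠ 0 → Good look mB dcol fx (TT.getD c []) c n) ∧
    (c < finc → Good look mB dcol fx (TT.getD c []) c n ∧ Nat.land (look c n) mB < lim)

theorem RangeOk.append {look : ℕ → ℕ → ℕ} {mB finc lim : ℕ} {dcol : ℕ → ℕ} {fx : ℕ → Bool}
    {TT : List (List (Bool × List ℕ))} {a b d : ℕ} (h1 : RangeOk look mB finc lim dcol fx TT a b)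
    (h2 : RangeOk look mB finc lim dcol fx TT b d) : RangeOk look mB finc lim dcol fx TT a d := by
  intro n h3 h4
  by_cases h : n < b
  · exact h1 n h3 h
  · exact h2 n (by omega) h4

theorem RangeOk.nil {look : ℕ → ℕ → ℕ} {mB finc lim : ℕ} {dcol : ℕ → ℕ} {fx : ℕ → Bool}
    {TT : List (List (Bool × List ℕ))} (a : ℕ) : RangeOk look mB finc lim dcol fx TT a a :=
  fun _ h3 h4 => absurd h3 (by omega)

theorem RangeOk.of_chunk {look : ℕ → ℕ → ℕ} {mB finc lim : ℕ} {dcol : ℕ → ℕ} {fx : ℕ → Bool}
    {TT : List (List (Bool × List ℕ))} {a S pb pm : ℕ} (b : ℕ)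
    {DD : List (ℕ × (ℕ × ℕ) × (ℕ × ℕ) × List (ℕ × ℕ))} (hlim : 0 < lim) (hb : b = a + S)
    (h : kChunk pb pm look mB finc lim dcol fx a (Nat.sub (Nat.shiftLeft 1 S) 1) TT 0 DD = true) :
    RangeOk look mB finc lim dcol fx TT a b := by
  intro n h1 h2 c hc
  have hbit : (Nat.sub (Nat.shiftLeft 1 S) 1).testBit (n - a) = true := by
    change ((1 <<< S) - 1).testBit (n - a) = true
    rw [Nat.one_shiftLeft, Nat.testBit_two_pow_sub_one]
    simp; omega
  have := kChunk_sound hlim TT 0 DD h c hc (n - a) hbit
  rw [show a + (n - a) = n by omega, Nat.zero_add] at this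
  rw [List.getD_eq_getElem _ _ hc]
  exact this

/-- merge of the final range (`a = 0 .. nf`, complete columns) and the rest -/
structure Valid (look : ℕ → ℕ → ℕ) (mB finc nf N : ℕ) (dcol : ℕ → ℕ) (fx : ℕ → Bool)
    (TT : List (List (Bool × List ℕ))) : Prop where
  fin : RangeOk look mB finc nf dcol fx TT 0 nf
  rest : RangeOk look mB 0 nf dcol fx TT nf N
  out : ∀ c n, look c n ≠ 0 → c < TT.length ∧ n < N
  bdd : ∃ M, ∀ c n, look c n ≤ M
  cols : finc ≤ TT.length
  pos : 0 < nf

section final

variable {G X : Type*} [Group G] [MulAction G X]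

theorem exists_val {look : ℕ → ℕ → ℕ} {mB finc nf N : ℕ} {dcol : ℕ → ℕ}
    {TT : List (List (Bool × List ℕ))} (gl : List G) (inv lab fxl : List ℕ) (rels : List (List ℕ))
    (hv : Valid look mB finc nf N dcol (fun c => memb fxl (nth lab c)) TT)
    (hT : allOK gl.length inv lab (withInv gl.length inv rels) TT 0 = true)
    (hinv : ∀ a < gl.length, lv gl a * lv gl (nth inv a) = 1)
    (hrel : ∀ r ∈ rels, wprod gl r = 1)
    (x0 : X) (hfix : ∀ a ∈ fxl, lv gl a • x0 = x0) :
    ∃ vl : ℕ → X, vl 0 = x0 ∧
      (∀ c n, look c n ≠ 0 → semc gl lab c • vl n = vl (Nat.land (look c n) mB)) ∧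
      (∀ c < finc, ∀ n < nf, ∃ m < nf, semc gl lab c • vl n = vl m) := by
  obtain ⟨M, hM⟩ := hv.bdd
  have hg : ∀ c n, look c n ≠ 0 →
      Good look mB dcol (fun c => memb fxl (nth lab c)) (TT.getD c []) c n := by
    intro c n hne
    obtain ⟨hc, hn⟩ := hv.out c n hne
    by_cases h : n < nf
    · exact (hv.fin n (by omega) h c hc).1 hne
    · exact (hv.rest n (by omega) hn c hc).1 hne
  have hval := valid (look := look) (mB := mB) (dcol := dcol) (fx := fun c => memb fxl (nth lab c))
    (semc gl lab) x0 (TT := fun c => TT.getD c []) hM hg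
    (by
      intro c hc
      have := hfix _ (memb_sound _ _ hc)
      change (lv gl (nth lab c))⁻¹ • x0 = x0
      rw [inv_smul_eq_iff]; exact this.symm)
    (by
      intro c ws hm
      have := allOK_sound _ _ _ _ _ 0 hT c true ws hm
      rw [Nat.zero_add] at this
      have := (tOK_sound gl inv lab _ _ true ws hinv (withInv_sound gl inv rels hinv hrel) this).1 rfl
      rw [wordSem_semc, this]; rfl)
    (by
      intro c ws hm
      have := allOK_sound _ _ _ _ _ 0 hT c false ws hm
      rw [Nat.zero_add] at this
      have := (tOK_sound gl inv lab _ _ false ws hinv (withInv_sound gl inv rels hinv hrel) this).2 rfl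
      rw [wordSem_semc, this]; rfl)
  refine ⟨val look mB dcol (semc gl lab) x0, val_zero _ _, fun c n hne => hval c n (hg c n hne), ?_⟩
  intro c hc n hn
  have h := (hv.fin n (by omega) hn c (lt_of_lt_of_le hc hv.cols)).2 hc
  exact ⟨_, h.2, hval c n h.1⟩

/-- **Index bound**: `H` contains the letters of `fxl`; `K` is generated by the letters of the columns `< finc`. -/
theorem relIndex_le_of_valid {look : ℕ → ℕ → ℕ} {mB finc nf N : ℕ} {dcol : ℕ → ℕ}
    {TT : List (List (Bool × List ℕ))} (gl : List G) (inv lab fxl : List ℕ) (rels : List (List ℕ))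
    (hv : Valid look mB finc nf N dcol (fun c => memb fxl (nth lab c)) TT)
    (hT : allOK gl.length inv lab (withInv gl.length inv rels) TT 0 = true)
    (hinv : ∀ a < gl.length, lv gl a * lv gl (nth inv a) = 1)
    (hrel : ∀ r ∈ rels, wprod gl r = 1)
    (H : Subgroup G) (hfix : ∀ a ∈ fxl, lv gl a ∈ H) (S : Set G)
    (hS : ∀ s ∈ S, ∃ c < finc, s = lv gl (nth lab c)) :
    H.relIndex (Subgroup.closure S) ≤ nf ∧ H.relIndex (Subgroup.closure S) ≠ 0 := by
  obtain ⟨vl, h0, _, hcl⟩ := exists_val gl inv lab fxl rels hv hT hinv hrel (((1 : G) : G ⧸ H))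
    (by
      intro a ha
      rw [MulAction.Quotient.smul_coe, smul_eq_mul, mul_one]
      have h1 : ((1 : G) : G ⧸ H) = ((lv gl a : G) : G ⧸ H) := by
        rw [QuotientGroup.eq]; simpa using hfix a ha
      exact h1.symm)
  have hS' : Subgroup.closure S = Subgroup.closure (S⁻¹) := (Subgroup.closure_inv S).symm
  refine relIndex_le H _ vl (nf := nf) ?_
  rw [hS']
  refine orbit_le (G := G) _ vl h0 hv.pos _ ?_
  intro s hs n hn
  obtain ⟨c, hc, hsc⟩ := hS s⁻¹ hs
  obtain ⟨m, hm, e⟩ := hcl c hc n hn
  refine ⟨m, hm, ?_⟩
  rw [← e]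
  congr 1
  rw [semc, ← hsc, inv_inv]

/-- **Word identities**: a word that can be traced from node `0` to node `0` lies in `H`. -/
theorem mem_of_trace {look : ℕ → ℕ → ℕ} {mB finc nf N : ℕ} {dcol : ℕ → ℕ}
    {TT : List (List (Bool × List ℕ))} (gl : List G) (inv lab fxl : List ℕ) (rels : List (List ℕ))
    (hv : Valid look mB finc nf N dcol (fun c => memb fxl (nth lab c)) TT)
    (hT : allOK gl.length inv lab (withInv gl.length inv rels) TT 0 = true)
    (hinv : ∀ a < gl.length, lv gl a * lv gl (nth inv a) = 1)
    (hrel : ∀ r ∈ rels, wprod gl r = 1)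
    (H : Subgroup G) (hfix : ∀ a ∈ fxl, lv gl a ∈ H) (ws : List ℕ)
    (hw : trace look mB 0 0 ws 0 = true) : wprod gl (ws.map (nth lab)) ∈ H := by
  obtain ⟨vl, h0, hval, _⟩ := exists_val gl inv lab fxl rels hv hT hinv hrel (((1 : G) : G ⧸ H))
    (by
      intro a ha
      rw [MulAction.Quotient.smul_coe, smul_eq_mul, mul_one]
      have h1 : ((1 : G) : G ⧸ H) = ((lv gl a : G) : G ⧸ H) := by
        rw [QuotientGroup.eq]; simpa using hfix a ha
      exact h1.symm)
  have := trace_sound (semc gl lab) vl (x := 0) (t := 0) (fun c m h => hval c m (by omega)) ws 0 hw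
  rw [wordSem_semc, h0, inv_smul_eq_iff, MulAction.Quotient.smul_coe, smul_eq_mul, mul_one] at this
  have h2 := QuotientGroup.eq.1 this
  simpa using h2

end final

end Cfsg.Agent.SporRec.TCUpperCert
end
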