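import Mathlib
set_option linter.all false

/-!
# The abstract closing lemma

Let `H < G` contain the centraliser of a 2-central involution `z` and control the fusion of `z`
(every `G`-conjugate of `z` in `H` is an `H`-conjugate).  Then there is a 2-subgroup `S` containing
no conjugate of `z`, whose normaliser is not contained in `H`, such that all involutions of
`N_G(S)/S` are conjugate to `z S`.  This is used in recognition theorems (to show `H = G` one has to
exclude all such `S`, a condition inside `H`).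
-/

set_option autoImplicit false

namespace Cfsg.Agent.SporRec.Closing

section perm

variable {K D : Type*} [Group K]

/-- The dihedral argument: involutions with different unique fixed points are conjugate. -/
theorem conj_of_ne [Finite K] (φ : K →* Equiv.Perm D)
    (hb : ∀ k : K, k ≠ 1 → k * k = 1 → ∀ d e : D, φ k d = d → φ k e = e → d = e)
    (a b : K) (ha1 : a ≠ 1) (ha2 : a * a = 1) (hb1 : b ≠ 1) (hb2 : b * b = 1)
    (d e : D) (hd : φ a d = d) (he : φ b e = e) (hde : d ≠ e) : ∃ k : K, k * a * k⁻¹ = b := by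
  have hai : a⁻¹ = a := inv_eq_of_mul_eq_one_left ha2
  have hbi : b⁻¹ = b := inv_eq_of_mul_eq_one_left hb2
  -- `a` inverts `a b`, and so does `b`
  have hinva : a * (a * b) * a⁻¹ = (a * b)⁻¹ := by
    rw [mul_inv_rev, hai, hbi, ← mul_assoc, ha2, one_mul]
  have hinvb : b * (a * b) * b⁻¹ = (a * b)⁻¹ := by
    rw [mul_inv_rev, hai, hbi, mul_assoc b (a * b) b, mul_assoc a b b, hb2, mul_one]
  have hpowa : ∀ n : ℕ, a * (a * b) ^ n * a⁻¹ = ((a * b) ^ n)⁻¹ := by
    intro n
    rw [← conj_pow, hinva, inv_pow]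
  have hpowb : ∀ n : ℕ, b * (a * b) ^ n * b⁻¹ = ((a * b) ^ n)⁻¹ := by
    intro n
    rw [← conj_pow, hinvb, inv_pow]
  rcases Nat.even_or_odd (orderOf (a * b)) with ⟨m, hm⟩ | ⟨m, hm⟩
  · exfalso
    -- `c = (ab)^m` is an involution commuting with `a` and `b`
    have hpos : 0 < orderOf (a * b) := orderOf_pos _
    have hmpos : 0 < m := by omega
    set c := (a * b) ^ m with hc
    have hc1 : c ≠ 1 := by
      intro h
      have := orderOf_dvd_of_pow_eq_one h
      have := Nat.le_of_dvd hmpos this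
      omega
    have hc2 : c * c = 1 := by
      rw [hc, ← pow_add, ← hm]
      exact pow_orderOf_eq_one _
    have hci : c⁻¹ = c := inv_eq_of_mul_eq_one_left hc2
    have hca : a * c = c * a := by
      have := hpowa m
      rw [← hc, hci] at this
      calc a * c = a * c * a⁻¹ * a := by group
        _ = c * a := by rw [this]
    have hcb : b * c = c * b := by
      have := hpowb m
      rw [← hc, hci] at this
      calc b * c = b * c * b⁻¹ * b := by group
        _ = c * b := by rw [this]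
    have h1 : φ c d = d := by
      apply hb a ha1 ha2 _ _ _ hd
      have : φ a (φ c d) = φ c (φ a d) := by
        rw [← Equiv.Perm.mul_apply, ← Equiv.Perm.mul_apply, ← map_mul, ← map_mul, hca]
      rw [this, hd]
    have h2 : φ c e = e := by
      apply hb b hb1 hb2 _ _ _ he
      have : φ b (φ c e) = φ c (φ b e) := by
        rw [← Equiv.Perm.mul_apply, ← Equiv.Perm.mul_apply, ← map_mul, ← map_mul, hcb]
      rw [this, he]
    exact hde (hb c hc1 hc2 d e h1 h2)
  · refine ⟨(a * b) ^ m, ?_⟩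
    have h1 : (a * b) ^ m * a = a * ((a * b) ^ m)⁻¹ := by
      have := hpowa m
      rw [← this, ← mul_assoc, ← mul_assoc, hai, ha2, one_mul]
    rw [h1, mul_assoc, ← mul_inv_rev, ← pow_add]
    have h2 : (a * b) ^ (m + m) * (a * b) = 1 := by
      rw [← pow_succ, show m + m + 1 = orderOf (a * b) by omega]
      exact pow_orderOf_eq_one _
    have h3 : ((a * b) ^ (m + m))⁻¹ = a * b := inv_eq_of_mul_eq_one_right h2
    rw [h3, ← mul_assoc, ha2, one_mul]

/-- A group of permutations in which every involution fixes at most one point and every point is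
fixed by an involution is transitive with one class of involutions. -/
theorem perm_lemma [Finite K] [Finite D] (φ : K →* Equiv.Perm D)
    (hb : ∀ k : K, k ≠ 1 → k * k = 1 → ∀ d e : D, φ k d = d → φ k e = e → d = e)
    (ha : ∀ d : D, ∃ k : K, k ≠ 1 ∧ k * k = 1 ∧ φ k d = d)
    (h2 : ∃ d e : D, d ≠ e) :
    (∀ d e : D, ∃ k : K, φ k d = e) ∧
    (∀ a : K, a ≠ 1 → a * a = 1 → ∃ d : D, φ a d = d) ∧
    (∀ a b : K, a ≠ 1 → a * a = 1 → b ≠ 1 → b * b = 1 → ∃ k : K, k * a * k⁻¹ = b) ∧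
    Odd (Nat.card D) := by
  classical
  have : Fintype D := Fintype.ofFinite D
  -- transitivity
  have htr : ∀ d e : D, ∃ k : K, φ k d = e := by
    intro d e
    by_cases hde : d = e
    · exact ⟨1, by rw [map_one]; exact hde⟩
    obtain ⟨a, ha1, ha2, had⟩ := ha d
    obtain ⟨b, hb1, hb2, hbe⟩ := ha e
    obtain ⟨k, hk⟩ := conj_of_ne φ hb a b ha1 ha2 hb1 hb2 d e had hbe hde
    refine ⟨k, ?_⟩
    apply hb b hb1 hb2 _ _ _ hbe
    rw [← hk]
    have e1 : φ k⁻¹ (φ k d) = d := by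
      rw [← Equiv.Perm.mul_apply, ← map_mul, inv_mul_cancel, map_one]; rfl
    rw [map_mul, map_mul, Equiv.Perm.mul_apply, Equiv.Perm.mul_apply, e1, had]
  -- parity
  have hpar : ∀ a : K, a * a = 1 → Fintype.card D ≡ Fintype.card {d : D // φ a d = d} [MOD 2] := by
    intro a ha2
    have h := Equiv.Perm.card_fixedPoints_modEq (α := D) (f := (φ a : D → D)) (p := 2) (n := 1) (by
      funext d
      show (φ a) ((φ a) d) = d
      rw [← Equiv.Perm.mul_apply, ← map_mul, ha2, map_one]; rfl)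
    have e : Fintype.card (Function.fixedPoints (φ a : D → D)) = Fintype.card {d : D // φ a d = d} :=
      Fintype.card_congr (Equiv.subtypeEquivRight (fun d => Iff.rfl))
    rw [e] at h
    exact h
  have hodd : Fintype.card D % 2 = 1 := by
    obtain ⟨d, -, -⟩ := h2
    obtain ⟨a, ha1, ha2, had⟩ := ha d
    have h1 : Fintype.card {x : D // φ a x = x} = 1 := by
      rw [Fintype.card_eq_one_iff]
      exact ⟨⟨d, had⟩, fun y => Subtype.ext (hb a ha1 ha2 _ _ y.2 had)⟩
    have := hpar a ha2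
    rw [h1] at this
    exact this
  have hfix : ∀ a : K, a ≠ 1 → a * a = 1 → ∃ d : D, φ a d = d := by
    intro a _ ha2
    by_contra hne
    have h0 : Fintype.card {x : D // φ a x = x} = 0 := by
      rw [Fintype.card_eq_zero_iff]
      exact ⟨fun y => hne ⟨y.1, y.2⟩⟩
    have := hpar a ha2
    rw [h0] at this
    have h3 : Fintype.card D % 2 = 0 % 2 := this
    omega
  refine ⟨htr, hfix, ?_, ?_⟩
  · intro a b ha1 ha2 hb1 hb2
    obtain ⟨d, hd⟩ := hfix a ha1 ha2
    obtain ⟨e, he⟩ := hfix b hb1 hb2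
    by_cases hde : d = e
    · obtain ⟨x, y, hxy⟩ := h2
      obtain ⟨f, hf⟩ : ∃ f : D, f ≠ d := by
        by_cases hx : x = d
        · exact ⟨y, fun h => hxy (hx.trans h.symm)⟩
        · exact ⟨x, hx⟩
      obtain ⟨c, hc1, hc2, hcf⟩ := ha f
      obtain ⟨k, hk⟩ := conj_of_ne φ hb a c ha1 ha2 hc1 hc2 d f hd hcf hf.symm
      obtain ⟨l, hl⟩ := conj_of_ne φ hb c b hc1 hc2 hb1 hb2 f e hcf he (by rw [← hde]; exact hf)
      refine ⟨l * k, ?_⟩
      rw [← hl, ← hk]
      group
    · exact conj_of_ne φ hb a b ha1 ha2 hb1 hb2 d e hd he hde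
  · rw [Nat.card_eq_fintype_card, Nat.odd_iff]
    exact hodd

end perm

section coset

variable {G : Type*} [Group G]

/-- the points of `G / H` fixed by `S` -/
def Fix (H S : Subgroup G) : Set (G ⧸ H) := {x | ∀ s ∈ S, s • x = x}

theorem smul_mk_eq_iff (H : Subgroup G) (s g : G) :
    s • (QuotientGroup.mk g : G ⧸ H) = QuotientGroup.mk g ↔ g⁻¹ * s * g ∈ H := by
  rw [MulAction.Quotient.smul_mk, QuotientGroup.eq, smul_eq_mul]
  constructor
  · intro h
    have := H.inv_mem h
    convert this using 1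
    group
  · intro h
    have := H.inv_mem h
    convert this using 1
    group

theorem mk_mem_Fix (H S : Subgroup G) (g : G) :
    (QuotientGroup.mk g : G ⧸ H) ∈ Fix H S ↔ ∀ s ∈ S, g⁻¹ * s * g ∈ H := by
  constructor
  · intro h s hs
    exact (smul_mk_eq_iff H s g).1 (h s hs)
  · intro h s hs
    exact (smul_mk_eq_iff H s g).2 (h s hs)

/-- a conjugate of `z` fixes exactly one point -/
theorem z_fix (H : Subgroup G) (z : G) (hC : Subgroup.centralizer ({z} : Set G) ≤ H)
    (hcl : ∀ g, g * z * g⁻¹ ∈ H → ∃ h ∈ H, h * z * h⁻¹ = g * z * g⁻¹) (g : G) (x : G ⧸ H)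
    (hx : (g * z * g⁻¹) • x = x) : x = QuotientGroup.mk g := by
  induction x using QuotientGroup.induction_on with
  | H a =>
    rw [smul_mk_eq_iff] at hx
    have e : a⁻¹ * (g * z * g⁻¹) * a = (a⁻¹ * g) * z * (a⁻¹ * g)⁻¹ := by group
    rw [e] at hx
    obtain ⟨h, hh, hz⟩ := hcl _ hx
    have hc : h⁻¹ * (a⁻¹ * g) ∈ Subgroup.centralizer ({z} : Set G) := by
      rw [Subgroup.mem_centralizer_singleton_iff]
      have : z = h⁻¹ * ((a⁻¹ * g) * z * (a⁻¹ * g)⁻¹) * h := by rw [← hz]; group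
      calc h⁻¹ * (a⁻¹ * g) * z = h⁻¹ * ((a⁻¹ * g) * z * (a⁻¹ * g)⁻¹) * h * (h⁻¹ * (a⁻¹ * g)) := by
            group
        _ = z * (h⁻¹ * (a⁻¹ * g)) := by rw [← this]
    have h3 : a⁻¹ * g ∈ H := by
      have := H.mul_mem hh (hC hc)
      rwa [mul_inv_cancel_left] at this
    exact QuotientGroup.eq.2 h3

/-- normaliser elements permute the fixed points -/
theorem smul_mem_Fix (H S : Subgroup G) (n : G) (hn : n ∈ Subgroup.normalizer (S : Set G))
    (x : G ⧸ H) (hx : x ∈ Fix H S) : n • x ∈ Fix H S := by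
  intro s hs
  have h1 : n⁻¹ * s * n ∈ S := by
    have := (Subgroup.mem_normalizer_iff.1 (Subgroup.inv_mem _ hn) s).1 hs
    rwa [inv_inv] at this
  have h2 := hx _ h1
  calc s • n • x = n • ((n⁻¹ * s * n) • x) := by
        rw [smul_smul, smul_smul]; congr 1; group
    _ = n • x := by rw [h2]

/-- the action of the normaliser on the fixed points -/
def actHom (H S : Subgroup G) :
    Subgroup.normalizer (S : Set G) →* Equiv.Perm {x : G ⧸ H // x ∈ Fix H S} where
  toFun n :=
    { toFun := fun x => ⟨(n : G) • x.1, smul_mem_Fix H S n n.2 x.1 x.2⟩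
      invFun := fun x => ⟨(n⁻¹ : G) • x.1, smul_mem_Fix H S _ (Subgroup.inv_mem _ n.2) x.1 x.2⟩
      left_inv := fun x => Subtype.ext (inv_smul_smul (n : G) x.1)
      right_inv := fun x => Subtype.ext (smul_inv_smul (n : G) x.1) }
  map_one' := by
    ext x
    simp
  map_mul' := by
    intro a b
    ext x
    simp [mul_smul]

theorem actHom_apply (H S : Subgroup G) (n : Subgroup.normalizer (S : Set G))
    (x : {x : G ⧸ H // x ∈ Fix H S}) : (actHom H S n x).1 = (n : G) • x.1 := rfl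

theorem mem_normalizer_of_comm (S : Subgroup G) (w : G) (h : ∀ s ∈ S, w * s = s * w) :
    w ∈ Subgroup.normalizer (S : Set G) := by
  rw [Subgroup.mem_normalizer_iff]
  intro s
  constructor
  · intro hs
    rw [h s hs, mul_inv_cancel_right]
    exact hs
  · intro hs
    have h1 := h _ hs
    have h2 : s = w * s * w⁻¹ := by
      have : w * (w * s * w⁻¹) * w⁻¹ = w * s * w⁻¹ := by rw [h1]; group
      calc s = w⁻¹ * (w * s * w⁻¹) * w := by group
        _ = w⁻¹ * (w * (w * s * w⁻¹) * w⁻¹) * w := by rw [this]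
        _ = _ := by group
    rw [h2]
    exact hs

/-- adjoining an involution modulo `S` gives a 2-group of larger order -/
theorem exists_larger [Finite G] (S : Subgroup G) (hS : IsPGroup 2 S) (x : G)
    (hx : x ∈ Subgroup.normalizer (S : Set G)) (hxS : x ∉ S) (hxx : x * x ∈ S) :
    ∃ R : Subgroup G, IsPGroup 2 R ∧ Nat.card S < Nat.card R ∧
      ∀ r ∈ R, r ∈ S ∨ ∃ s ∈ S, r = x * s := by
  classical
  have hxi : ∀ s ∈ S, x⁻¹ * s * x ∈ S := by
    intro s hs
    have := (Subgroup.mem_normalizer_iff.1 (Subgroup.inv_mem _ hx) s).1 hs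
    rwa [inv_inv] at this
  let R : Subgroup G :=
    { carrier := {r | r ∈ S ∨ ∃ s ∈ S, r = x * s}
      one_mem' := Or.inl S.one_mem
      mul_mem' := by
        rintro a b (ha | ⟨s, hs, rfl⟩) (hb | ⟨t, ht, rfl⟩)
        · exact Or.inl (S.mul_mem ha hb)
        · refine Or.inr ⟨x⁻¹ * a * x * t, S.mul_mem (hxi a ha) ht, ?_⟩
          group
        · exact Or.inr ⟨s * b, S.mul_mem hs hb, by group⟩
        · refine Or.inl ?_
          have : x * s * (x * t) = (x * x) * (x⁻¹ * s * x) * t := by group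
          rw [this]
          exact S.mul_mem (S.mul_mem hxx (hxi s hs)) ht
      inv_mem' := by
        rintro a (ha | ⟨s, hs, rfl⟩)
        · exact Or.inl (S.inv_mem ha)
        · refine Or.inr ⟨(x * x)⁻¹ * (x * s⁻¹ * x⁻¹), ?_, ?_⟩
          · exact S.mul_mem (S.inv_mem hxx)
              ((Subgroup.mem_normalizer_iff.1 hx _).1 (S.inv_mem hs))
          · group }
  have hRmem : ∀ r, r ∈ R ↔ (r ∈ S ∨ ∃ s ∈ S, r = x * s) := fun r => Iff.rfl
  refine ⟨R, ?_, ?_, fun r hr => hr⟩
  · -- every element of `R` has order a power of two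
    intro r
    obtain ⟨r, hr⟩ := r
    have hsq : r * r ∈ S := by
      rcases hr with h | ⟨s, hs, rfl⟩
      · exact S.mul_mem h h
      · have : x * s * (x * s) = (x * x) * (x⁻¹ * s * x) * s := by group
        rw [this]
        exact S.mul_mem (S.mul_mem hxx (hxi s hs)) hs
    obtain ⟨k, hk⟩ := hS ⟨r * r, hsq⟩
    refine ⟨k + 1, ?_⟩
    apply Subtype.ext
    have : (r * r) ^ 2 ^ k = 1 := congrArg Subtype.val hk
    show r ^ 2 ^ (k + 1) = 1
    rw [pow_succ', pow_mul, pow_two, this]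
  · have hle : S ≤ R := fun s hs => Or.inl hs
    have hlt : S < R := lt_of_le_of_ne hle (by
      intro h
      apply hxS
      rw [h]
      exact Or.inr ⟨1, S.one_mem, by group⟩)
    exact Set.ncard_lt_ncard (s := (S : Set G)) (t := (R : Set G)) hlt (Set.toFinite _)

/-- a 2-subgroup of a conjugate of `H` is centralised by a conjugate of `z` in that conjugate -/
theorem exists_z_centralizing [Finite G] (H : Subgroup G) (T : Sylow 2 G) (z : G)
    (hT : ∀ t ∈ (T : Subgroup G), t * z = z * t) (hTH : (T : Subgroup G) ≤ H)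
    (S : Subgroup G) (hS : IsPGroup 2 S) (g : G) (hg : ∀ s ∈ S, g⁻¹ * s * g ∈ H) :
    ∃ h ∈ H, (∀ s ∈ S, (g * h⁻¹)⁻¹ * s * (g * h⁻¹) ∈ (T : Subgroup G)) ∧
      ∀ s ∈ S, (g * h⁻¹) * z * (g * h⁻¹)⁻¹ * s = s * ((g * h⁻¹) * z * (g * h⁻¹)⁻¹) := by
  obtain ⟨h, hh, hconj⟩ : ∃ h ∈ H, ∀ s ∈ S, h * (g⁻¹ * s * g) * h⁻¹ ∈ (T : Subgroup G) := by
    let TH : Sylow 2 H := T.subtype hTH
    let P : Subgroup H := (S.map (MulAut.conj g⁻¹).toMonoidHom).subgroupOf H
    have hP : IsPGroup 2 P := by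
      have h1 : IsPGroup 2 (S.map (MulAut.conj g⁻¹).toMonoidHom) := hS.map _
      exact h1.comap_of_injective _ (Subgroup.subtype_injective H)
    obtain ⟨Q, hQ⟩ := hP.exists_le_sylow
    obtain ⟨h, hh⟩ := MulAction.exists_smul_eq H Q TH
    refine ⟨h, h.2, ?_⟩
    intro s hs
    have hmem : (⟨g⁻¹ * s * g, hg s hs⟩ : H) ∈ P := by
      rw [Subgroup.mem_subgroupOf]
      exact ⟨s, hs, by simp⟩
    have h3 : h * (⟨g⁻¹ * s * g, hg s hs⟩ : H) * h⁻¹ ∈ (TH : Subgroup H) := by
      rw [← hh]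
      exact ⟨_, hQ hmem, by simp [MulAut.conj_apply]⟩
    exact h3
  refine ⟨h, hh, ?_, ?_⟩
  · intro s hs
    have := hconj s hs
    have e : (g * h⁻¹)⁻¹ * s * (g * h⁻¹) = h * (g⁻¹ * s * g) * h⁻¹ := by group
    rw [e]
    exact this
  · intro s hs
    have := hT _ (hconj s hs)
    have e1 : (g * h⁻¹) * z * (g * h⁻¹)⁻¹ * s =
        (g * h⁻¹) * (z * (h * (g⁻¹ * s * g) * h⁻¹)) * (g * h⁻¹)⁻¹ := by group
    rw [e1, ← this]
    group

/-- General form: a 2-subgroup `S` fixing two points, `C_G(S) ≤ Y ≤ N_G(S)`, and no involution of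
`Y/S` fixes two points of `Fix S`. -/
theorem lemB [Finite G] (H : Subgroup G) (T : Sylow 2 G) (z : G)
    (hz2 : z * z = 1) (hT : ∀ t ∈ (T : Subgroup G), t * z = z * t)
    (hzT : z ∈ (T : Subgroup G)) (hC : Subgroup.centralizer ({z} : Set G) ≤ H)
    (hcl : ∀ g, g * z * g⁻¹ ∈ H → ∃ h ∈ H, h * z * h⁻¹ = g * z * g⁻¹)
    (S : Subgroup G) (hS : IsPGroup 2 S) (hfix : ∃ x y, x ∈ Fix H S ∧ y ∈ Fix H S ∧ x ≠ y)
    (Y : Subgroup G) (hYC : Subgroup.centralizer (S : Set G) ≤ Y)
    (hYN : Y ≤ Subgroup.normalizer (S : Set G))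
    (hmax : ∀ a ∈ Y, a ∉ S → a * a ∈ S → ∀ x y, x ∈ Fix H S → y ∈ Fix H S →
      a • x = x → a • y = y → x = y) :
    (∀ g, g * z * g⁻¹ ∉ S) ∧
    (∀ x y, x ∈ Fix H S → y ∈ Fix H S → ∃ n ∈ Y, n • x = y) ∧
    (∀ a ∈ Y, a ∉ S → a * a ∈ S → ∀ b ∈ Y, b ∉ S → b * b ∈ S →
      ∃ n ∈ Y, n * a * n⁻¹ * b⁻¹ ∈ S) ∧
    Odd (Nat.card {x : G ⧸ H // x ∈ Fix H S}) := by
  classical
  have hfree : ∀ g, g * z * g⁻¹ ∉ S := by
    intro g hg
    obtain ⟨x, y, hx, hy, hxy⟩ := hfix
    exact hxy ((z_fix H z hC hcl g x (hx _ hg)).trans (z_fix H z hC hcl g y (hy _ hg)).symm)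
  have hTC : (T : Subgroup G) ≤ H := by
    intro t ht
    apply hC
    rw [Subgroup.mem_centralizer_singleton_iff]
    exact hT t ht
  let S' : Subgroup Y := S.subgroupOf Y
  have hnormal : S'.Normal := by
    constructor
    intro n hn g
    rw [Subgroup.mem_subgroupOf] at hn ⊢
    exact (Subgroup.mem_normalizer_iff.1 (hYN g.2) _).1 hn
  let act : Y →* Equiv.Perm {x : G ⧸ H // x ∈ Fix H S} :=
    (actHom H S).comp (Subgroup.inclusion hYN)
  have hact : ∀ (n : Y) (x : {x : G ⧸ H // x ∈ Fix H S}), (act n x).1 = (n : G) • x.1 :=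
    fun n x => rfl
  have hker : ∀ n ∈ S', act n = 1 := by
    intro n hn
    apply Equiv.ext
    intro x
    apply Subtype.ext
    rw [hact]
    exact x.2 _ (Subgroup.mem_subgroupOf.1 hn)
  let φ : Y ⧸ S' →* Equiv.Perm {x : G ⧸ H // x ∈ Fix H S} := QuotientGroup.lift S' act hker
  have hφ : ∀ (n : Y) (x : {x : G ⧸ H // x ∈ Fix H S}),
      (φ (QuotientGroup.mk n) x).1 = (n : G) • x.1 := fun n x => rfl
  have hmk1 : ∀ n : Y, (QuotientGroup.mk n : Y ⧸ S') = 1 ↔ (n : G) ∈ S := by
    intro n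
    rw [QuotientGroup.eq_one_iff, Subgroup.mem_subgroupOf]
  have key := perm_lemma φ
    (by
      intro k hk1 hk2 d e hd he
      induction k using QuotientGroup.induction_on with
      | H n =>
        have h1 : (n : G) ∉ S := fun h => hk1 ((hmk1 n).2 h)
        have h2 : (n : G) * n ∈ S := (hmk1 (n * n)).1 hk2
        apply Subtype.ext
        apply hmax n n.2 h1 h2 d.1 e.1 d.2 e.2
        · have := congrArg Subtype.val hd
          rwa [hφ] at this
        · have := congrArg Subtype.val he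
          rwa [hφ] at this)
    (by
      rintro ⟨d, hd⟩
      induction d using QuotientGroup.induction_on with
      | H g =>
        rw [mk_mem_Fix] at hd
        obtain ⟨h, hh, -, hcomm⟩ := exists_z_centralizing H T z hT hTC S hS g hd
        have hzY : (g * h⁻¹) * z * (g * h⁻¹)⁻¹ ∈ Y := by
          apply hYC
          rw [Subgroup.mem_centralizer_iff]
          intro s hs
          exact (hcomm s hs).symm
        refine ⟨QuotientGroup.mk ⟨_, hzY⟩, ?_, ?_, ?_⟩
        · intro h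
          exact hfree _ ((hmk1 _).1 h)
        · rw [← QuotientGroup.mk_mul, hmk1]
          have : (g * h⁻¹) * z * (g * h⁻¹)⁻¹ * ((g * h⁻¹) * z * (g * h⁻¹)⁻¹) = 1 := by
            have : (g * h⁻¹) * z * (g * h⁻¹)⁻¹ * ((g * h⁻¹) * z * (g * h⁻¹)⁻¹) =
              (g * h⁻¹) * (z * z) * (g * h⁻¹)⁻¹ := by group
            rw [this, hz2]; group
          show (g * h⁻¹) * z * (g * h⁻¹)⁻¹ * ((g * h⁻¹) * z * (g * h⁻¹)⁻¹) ∈ S
          rw [this]
          exact S.one_mem
        · apply Subtype.ext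
          rw [hφ]
          show ((g * h⁻¹) * z * (g * h⁻¹)⁻¹) • (QuotientGroup.mk g : G ⧸ H) = QuotientGroup.mk g
          rw [smul_mk_eq_iff]
          have e : g⁻¹ * ((g * h⁻¹) * z * (g * h⁻¹)⁻¹) * g = h⁻¹ * z * h := by group
          rw [e]
          exact H.mul_mem (H.mul_mem (H.inv_mem hh) (hTC hzT)) hh)
    (by
      obtain ⟨x, y, hx, hy, hxy⟩ := hfix
      exact ⟨⟨x, hx⟩, ⟨y, hy⟩, fun h => hxy (congrArg Subtype.val h)⟩)
  obtain ⟨k1, -, k3, k4⟩ := key
  refine ⟨hfree, ?_, ?_, k4⟩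
  · intro x y hx hy
    obtain ⟨k, hk⟩ := k1 ⟨x, hx⟩ ⟨y, hy⟩
    induction k using QuotientGroup.induction_on with
    | H n =>
      refine ⟨n, n.2, ?_⟩
      have := congrArg Subtype.val hk
      rwa [hφ] at this
  · intro a haN haS haa b hbN hbS hbb
    obtain ⟨k, hk⟩ := k3 (QuotientGroup.mk ⟨a, haN⟩) (QuotientGroup.mk ⟨b, hbN⟩)
      (fun h => haS ((hmk1 _).1 h)) (by rw [← QuotientGroup.mk_mul]; exact (hmk1 _).2 haa)
      (fun h => hbS ((hmk1 _).1 h)) (by rw [← QuotientGroup.mk_mul]; exact (hmk1 _).2 hbb)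
    induction k using QuotientGroup.induction_on with
    | H n =>
      refine ⟨n, n.2, ?_⟩
      have h1 : (QuotientGroup.mk (n * ⟨a, haN⟩ * n⁻¹ * (⟨b, hbN⟩)⁻¹) : Y ⧸ S') = 1 := by
        rw [QuotientGroup.mk_mul, QuotientGroup.mk_mul, QuotientGroup.mk_mul, QuotientGroup.mk_inv,
          QuotientGroup.mk_inv, hk, mul_inv_cancel]
      exact (hmk1 _).1 h1

/-- The main lemma for a maximal 2-subgroup fixing two points. -/
theorem lemA [Finite G] (H : Subgroup G) (T : Sylow 2 G) (z : G)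
    (hz2 : z * z = 1) (hzT : z ∈ (T : Subgroup G)) (hT : ∀ t ∈ (T : Subgroup G), t * z = z * t)
    (hC : Subgroup.centralizer ({z} : Set G) ≤ H)
    (hcl : ∀ g, g * z * g⁻¹ ∈ H → ∃ h ∈ H, h * z * h⁻¹ = g * z * g⁻¹)
    (S : Subgroup G) (hS : IsPGroup 2 S) (hfix : ∃ x y, x ∈ Fix H S ∧ y ∈ Fix H S ∧ x ≠ y)
    (hmax : ∀ R : Subgroup G, IsPGroup 2 R → (∃ x y, x ∈ Fix H R ∧ y ∈ Fix H R ∧ x ≠ y) →
      Nat.card R ≤ Nat.card S) :
    (∀ g, g * z * g⁻¹ ∉ S) ∧
    (∀ x y, x ∈ Fix H S → y ∈ Fix H S → ∃ n ∈ Subgroup.normalizer (S : Set G), n • x = y) ∧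
    (∀ a ∈ Subgroup.normalizer (S : Set G), a ∉ S → a * a ∈ S →
      ∀ b ∈ Subgroup.normalizer (S : Set G), b ∉ S → b * b ∈ S →
      ∃ n ∈ Subgroup.normalizer (S : Set G), n * a * n⁻¹ * b⁻¹ ∈ S) ∧
    Odd (Nat.card {x : G ⧸ H // x ∈ Fix H S}) := by
  apply lemB H T z hz2 hT hzT hC hcl S hS hfix _ (Subgroup.centralizer_le_normalizer _) le_rfl
  intro a haN haS haa x y hx hy hax hay
  obtain ⟨R, hR2, hRc, hR⟩ := exists_larger S hS a haN haS haa
  by_contra hde
  have := hmax R hR2 ⟨x, y, ?_, ?_, hde⟩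
  · omega
  · intro r hr
    rcases hR r hr with h | ⟨s, hs, rfl⟩
    · exact hx r h
    · rw [mul_smul, hx s hs, hax]
  · intro r hr
    rcases hR r hr with h | ⟨s, hs, rfl⟩
    · exact hy r h
    · rw [mul_smul, hy s hs, hay]

/-- The output of the closing lemma. -/
structure IsClosing (H : Subgroup G) (T : Sylow 2 G) (z : G) (S : Subgroup G) : Prop where
  /-- `S ≤ T` -/
  le : S ≤ (T : Subgroup G)
  /-- no conjugate of `z` lies in `S` -/
  free : ∀ g, g * z * g⁻¹ ∉ S
  /-- the normaliser of `S` is not contained in `H` -/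
  not_le : ¬ Subgroup.normalizer (S : Set G) ≤ H
  /-- all involutions of `N_G(S)/S` are conjugate to `z S` -/
  conj : ∀ a ∈ Subgroup.normalizer (S : Set G), a ∉ S → a * a ∈ S →
    ∃ n ∈ Subgroup.normalizer (S : Set G), n * a * n⁻¹ * z⁻¹ ∈ S
  /-- `N_T(S)` is a Sylow 2-subgroup of `N_G(S)` -/
  sylow : ∀ R : Subgroup G, IsPGroup 2 R → R ≤ Subgroup.normalizer (S : Set G) →
    ∃ n ∈ Subgroup.normalizer (S : Set G), ∀ r ∈ R, n * r * n⁻¹ ∈ (T : Subgroup G)
  /-- maximality -/
  max : ∀ R : Subgroup G, IsPGroup 2 R → R ≤ H → ∀ g, g ∉ H → (∀ r ∈ R, g⁻¹ * r * g ∈ H) →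
    Nat.card R ≤ Nat.card S
  /-- `S` fixes a second point -/
  two : ∃ g, g ∉ H ∧ ∀ s ∈ S, g⁻¹ * s * g ∈ H

/-- Translation of "fixes two points": conjugating by an element. -/
theorem fix_map (H S : Subgroup G) (k : G) (x : G ⧸ H) (hx : x ∈ Fix H S) :
    k⁻¹ • x ∈ Fix H (S.map (MulAut.conj k⁻¹).toMonoidHom) := by
  rintro _ ⟨s, hs, rfl⟩
  have e : (MulAut.conj k⁻¹).toMonoidHom s = k⁻¹ * s * k := by simp
  rw [e, smul_smul]
  have : k⁻¹ * s * k * k⁻¹ = k⁻¹ * s := by group
  rw [this, mul_smul, hx s hs]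

/-- **The closing lemma.** -/
theorem exists_closing [Finite G] (H : Subgroup G) (hH : H ≠ ⊤) (T : Sylow 2 G) (z : G)
    (hz2 : z * z = 1) (hzT : z ∈ (T : Subgroup G)) (hT : ∀ t ∈ (T : Subgroup G), t * z = z * t)
    (hC : Subgroup.centralizer ({z} : Set G) ≤ H)
    (hcl : ∀ g, g * z * g⁻¹ ∈ H → ∃ h ∈ H, h * z * h⁻¹ = g * z * g⁻¹) :
    ∃ S : Subgroup G, IsClosing H T z S := by
  classical
  have hTH : (T : Subgroup G) ≤ H := by
    intro t ht
    apply hC
    rw [Subgroup.mem_centralizer_singleton_iff]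
    exact hT t ht
  -- a maximal 2-subgroup fixing two points
  obtain ⟨g0, hg0⟩ : ∃ g, g ∉ H := by
    by_contra h
    push Not at h
    exact hH (Subgroup.eq_top_iff' H |>.2 h)
  obtain ⟨S0, ⟨hS0, hS0f⟩, hS0m⟩ := Set.exists_max_image
    {S : Subgroup G | IsPGroup 2 S ∧ ∃ x y, x ∈ Fix H S ∧ y ∈ Fix H S ∧ x ≠ y}
    (fun S => Nat.card S) (Set.toFinite _) ⟨⊥, IsPGroup.of_bot, QuotientGroup.mk 1,
      QuotientGroup.mk g0, by
        intro s hs; rw [Subgroup.mem_bot.1 hs, one_smul], by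
        intro s hs; rw [Subgroup.mem_bot.1 hs, one_smul], by
        intro h
        rw [QuotientGroup.eq] at h
        apply hg0
        simpa using h⟩
  have hmax0 : ∀ R : Subgroup G, IsPGroup 2 R → (∃ x y, x ∈ Fix H R ∧ y ∈ Fix H R ∧ x ≠ y) →
      Nat.card R ≤ Nat.card S0 := fun R h1 h2 => hS0m R ⟨h1, h2⟩
  obtain ⟨-, -, -, hodd⟩ := lemA H T z hz2 hzT hT hC hcl S0 hS0 hS0f hmax0
  -- a Sylow 2-subgroup of the normaliser fixes a point
  obtain ⟨R⟩ : Nonempty (Sylow 2 (Subgroup.normalizer (S0 : Set G))) := inferInstance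
  obtain ⟨d, hd⟩ : ∃ d ∈ Fix H S0, ∀ r ∈ (R : Subgroup (Subgroup.normalizer (S0 : Set G))),
      (r : G) • d = d := by
    let A := {x : G ⧸ H // x ∈ Fix H S0}
    have : Finite A := inferInstance
    let _ : MulAction R A :=
      { smul := fun r x => actHom H S0 (r : Subgroup.normalizer (S0 : Set G)) x
        one_smul := by
          intro x
          show actHom H S0 ((1 : R) : Subgroup.normalizer (S0 : Set G)) x = x
          rw [OneMemClass.coe_one, map_one]
          rfl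
        mul_smul := by
          intro a b x
          show actHom H S0 ((a * b : R) : Subgroup.normalizer (S0 : Set G)) x =
            actHom H S0 (a : Subgroup.normalizer (S0 : Set G))
              (actHom H S0 (b : Subgroup.normalizer (S0 : Set G)) x)
          rw [Subgroup.coe_mul, map_mul]
          rfl }
    have hmod := R.isPGroup'.card_modEq_card_fixedPoints A
    have hne : (MulAction.fixedPoints R A).Nonempty := by
      rw [Set.nonempty_iff_ne_empty]
      intro h0
      have h1 : Nat.card (MulAction.fixedPoints R A) = 0 := by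
        rw [h0]
        simp
      rw [h1] at hmod
      have h2 : Nat.card A % 2 = 0 % 2 := hmod
      obtain ⟨m, hm⟩ := hodd
      have : Nat.card A = 2 * m + 1 := hm
      omega
    obtain ⟨x, hx⟩ := hne
    refine ⟨x.1, x.2, ?_⟩
    intro r hr
    exact congrArg Subtype.val (hx ⟨r, hr⟩)
  obtain ⟨hdF, hdR⟩ := hd
  induction d using QuotientGroup.induction_on with
  | H g =>
    -- move `R` into `T`
    let R' : Subgroup G := (R : Subgroup (Subgroup.normalizer (S0 : Set G))).map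
      (Subgroup.subtype _)
    have hR' : IsPGroup 2 R' := R.isPGroup'.map _
    have hgR : ∀ r ∈ R', g⁻¹ * r * g ∈ H := by
      rintro _ ⟨r, hr, rfl⟩
      exact (smul_mk_eq_iff H _ g).1 (hdR r hr)
    obtain ⟨h, hh, hTR, -⟩ := exists_z_centralizing H T z hT hTH R' hR' g hgR
    set k := g * h⁻¹ with hk
    -- `S0 ≤ R'`
    have hS0R : S0 ≤ R' := by
      have hSn : (S0.subgroupOf (Subgroup.normalizer (S0 : Set G))).Normal :=
        Subgroup.normal_in_normalizer
      have hSp : IsPGroup 2 (S0.subgroupOf (Subgroup.normalizer (S0 : Set G))) :=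
        hS0.comap_of_injective _ (Subgroup.subtype_injective _)
      have hsup : IsPGroup 2 ((S0.subgroupOf (Subgroup.normalizer (S0 : Set G))) ⊔
          (R : Subgroup (Subgroup.normalizer (S0 : Set G))) : Subgroup _) :=
        hSp.to_sup_of_normal_left R.isPGroup'
      have hle : S0.subgroupOf (Subgroup.normalizer (S0 : Set G)) ≤ R := by
        have h1 := R.is_maximal' hsup le_sup_right
        rw [← h1]
        exact le_sup_left
      intro s hs
      exact ⟨⟨s, Subgroup.le_normalizer hs⟩, hle (Subgroup.mem_subgroupOf.2 hs), rfl⟩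
    let S : Subgroup G := S0.map (MulAut.conj k⁻¹).toMonoidHom
    have hmemS : ∀ x, x ∈ S ↔ k * x * k⁻¹ ∈ S0 := by
      intro x
      constructor
      · rintro ⟨s, hs, rfl⟩
        have : k * (MulAut.conj k⁻¹).toMonoidHom s * k⁻¹ = s := by simp; group
        rw [this]
        exact hs
      · intro hx
        exact ⟨_, hx, by simp; group⟩
    have hScard : Nat.card S = Nat.card S0 :=
      Nat.card_congr (S0.equivMapOfInjective _ (MulAut.conj k⁻¹).injective).symm.toEquiv
    have hSp : IsPGroup 2 S := hS0.map _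
    have hSf : ∃ x y, x ∈ Fix H S ∧ y ∈ Fix H S ∧ x ≠ y := by
      obtain ⟨x, y, hx, hy, hxy⟩ := hS0f
      refine ⟨k⁻¹ • x, k⁻¹ • y, fix_map H S0 k x hx, fix_map H S0 k y hy, ?_⟩
      intro h
      exact hxy (smul_left_cancel _ h)
    have hSm : ∀ R : Subgroup G, IsPGroup 2 R → (∃ x y, x ∈ Fix H R ∧ y ∈ Fix H R ∧ x ≠ y) →
        Nat.card R ≤ Nat.card S := by
      intro R h1 h2
      rw [hScard]
      exact hmax0 R h1 h2
    obtain ⟨hfree, htr, hconj, -⟩ := lemA H T z hz2 hzT hT hC hcl S hSp hSf hSm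
    have hST : S ≤ (T : Subgroup G) := by
      intro x hx
      have h1 := hTR _ (hS0R ((hmemS x).1 hx))
      have : k⁻¹ * (k * x * k⁻¹) * k = x := by group
      rwa [this] at h1
    have hSH : (QuotientGroup.mk 1 : G ⧸ H) ∈ Fix H S := by
      rw [mk_mem_Fix]
      intro s hs
      simpa using hTH (hST hs)
    obtain ⟨y, hyF, hy1⟩ : ∃ y ∈ Fix H S, y ≠ (QuotientGroup.mk 1 : G ⧸ H) := by
      obtain ⟨x, y, hx, hy, hxy⟩ := hSf
      by_cases h : x = QuotientGroup.mk 1
      · exact ⟨y, hy, fun h' => hxy (h.trans h'.symm)⟩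
      · exact ⟨x, hx, h⟩
    refine ⟨S, hST, hfree, ?_, ?_, ?_, ?_, ?_⟩
    · intro hle
      obtain ⟨n, hn, hny⟩ := htr _ _ hSH hyF
      apply hy1
      rw [← hny, MulAction.Quotient.smul_mk, smul_eq_mul, mul_one]
      exact (QuotientGroup.eq.2 (by simpa using hle hn)).symm
    · intro a haN haS haa
      have hzN : z ∈ Subgroup.normalizer (S : Set G) :=
        mem_normalizer_of_comm S z (fun s hs => (hT s (hST hs)).symm)
      have hzS : z ∉ S := by
        have := hfree 1
        simpa using this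
      exact hconj a haN haS haa z hzN hzS (by rw [hz2]; exact S.one_mem)
    · intro P hP hPN
      -- conjugate into `N_G(S0)`
      let P0 : Subgroup (Subgroup.normalizer (S0 : Set G)) :=
        (P.map (MulAut.conj k).toMonoidHom).subgroupOf _
      have hP0 : IsPGroup 2 P0 := by
        have h1 : IsPGroup 2 (P.map (MulAut.conj k).toMonoidHom) := hP.map _
        exact h1.comap_of_injective _ (Subgroup.subtype_injective _)
      obtain ⟨Q, hQ⟩ := hP0.exists_le_sylow
      obtain ⟨n, hn⟩ := MulAction.exists_smul_eq (Subgroup.normalizer (S0 : Set G)) Q R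
      have hconjN : ∀ x ∈ Subgroup.normalizer (S : Set G),
          k * x * k⁻¹ ∈ Subgroup.normalizer (S0 : Set G) := by
        intro x hx
        rw [Subgroup.mem_normalizer_iff] at hx ⊢
        intro s
        have h1 := hx (k⁻¹ * s * k)
        rw [hmemS, hmemS] at h1
        have e1 : k * (k⁻¹ * s * k) * k⁻¹ = s := by group
        have e2 : k * (x * (k⁻¹ * s * k) * x⁻¹) * k⁻¹ = k * x * k⁻¹ * s * (k * x * k⁻¹)⁻¹ := by
          group
        rw [e1, e2] at h1
        exact h1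
      refine ⟨k⁻¹ * n * k, ?_, ?_⟩
      · have hn2 := n.2
        rw [Subgroup.mem_normalizer_iff] at hn2 ⊢
        intro s
        have h1 := hn2 (k * s * k⁻¹)
        rw [hmemS, hmemS]
        have e1 : k * (k⁻¹ * (n : G) * k * s * (k⁻¹ * (n : G) * k)⁻¹) * k⁻¹ =
          (n : G) * (k * s * k⁻¹) * (n : G)⁻¹ := by group
        rw [e1]
        exact h1
      · intro r hr
        have h1 : (⟨k * r * k⁻¹, hconjN r (hPN hr)⟩ : Subgroup.normalizer (S0 : Set G)) ∈ P0 := by
          rw [Subgroup.mem_subgroupOf]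
          exact ⟨r, hr, by simp⟩
        have h2 : n * (⟨k * r * k⁻¹, hconjN r (hPN hr)⟩ : Subgroup.normalizer (S0 : Set G)) * n⁻¹ ∈
            (R : Subgroup (Subgroup.normalizer (S0 : Set G))) := by
          rw [← hn]
          exact ⟨_, hQ h1, by simp [MulAut.conj_apply]⟩
        have h3 : (n : G) * (k * r * k⁻¹) * (n : G)⁻¹ ∈ R' := ⟨_, h2, rfl⟩
        have h4 := hTR _ h3
        have e : k⁻¹ * ((n : G) * (k * r * k⁻¹) * (n : G)⁻¹) * k =
          k⁻¹ * (n : G) * k * r * (k⁻¹ * (n : G) * k)⁻¹ := by group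
        rw [e] at h4
        exact h4
    · intro P hP hPH x hxH hx
      apply hSm P hP
      refine ⟨QuotientGroup.mk 1, QuotientGroup.mk x, ?_, ?_, ?_⟩
      · rw [mk_mem_Fix]
        intro s hs
        simpa using hPH hs
      · rw [mk_mem_Fix]
        exact hx
      · intro h
        rw [QuotientGroup.eq] at h
        apply hxH
        simpa using h
    · induction y using QuotientGroup.induction_on with
      | H a =>
        refine ⟨a, ?_, ?_⟩
        · intro ha
          apply hy1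
          rw [eq_comm, QuotientGroup.eq]
          simpa using ha
        · rw [mk_mem_Fix] at hyF
          exact hyF

namespace IsClosing

variable {H : Subgroup G} {T : Sylow 2 G} {z : G} {S : Subgroup G}

/-- every involution of `N_G(S)/S` is represented by a conjugate of `z` centralising `S` -/
theorem exists_z (h : IsClosing H T z S) (hT : ∀ t ∈ (T : Subgroup G), t * z = z * t)
    (a : G) (haN : a ∈ Subgroup.normalizer (S : Set G)) (haS : a ∉ S) (haa : a * a ∈ S) :
    ∃ s ∈ S, ∃ n ∈ Subgroup.normalizer (S : Set G), a * s = n * z * n⁻¹ ∧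
      ∀ t ∈ S, (a * s) * t = t * (a * s) := by
  obtain ⟨n, hn, hs⟩ := h.conj a haN haS haa
  -- `n a n⁻¹ = s₁ z`
  have hni : ∀ s ∈ S, n⁻¹ * s * n ∈ S := by
    intro s hs
    have := (Subgroup.mem_normalizer_iff.1 (Subgroup.inv_mem _ hn) s).1 hs
    rwa [inv_inv] at this
  have hnc : ∀ s ∈ S, n * s * n⁻¹ ∈ S := fun s hs => (Subgroup.mem_normalizer_iff.1 hn s).1 hs
  have hwc : ∀ t ∈ S, (n⁻¹ * z * n) * t = t * (n⁻¹ * z * n) := by
    intro t ht
    have h1 := hT _ (h.le (hnc t ht))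
    have e1 : (n⁻¹ * z * n) * t = n⁻¹ * (z * (n * t * n⁻¹)) * n := by group
    rw [e1, ← h1]
    group
  have ha : a = (n⁻¹ * z * n) * (n⁻¹ * (n * a * n⁻¹ * z⁻¹) * n) := by
    rw [hwc _ (hni _ hs)]
    group
  refine ⟨(n⁻¹ * (n * a * n⁻¹ * z⁻¹) * n)⁻¹, S.inv_mem (hni _ hs), n⁻¹, Subgroup.inv_mem _ hn,
    ?_, ?_⟩
  · nth_rewrite 1 [ha]
    group
  · have e2 : a * (n⁻¹ * (n * a * n⁻¹ * z⁻¹) * n)⁻¹ = n⁻¹ * z * n := by
      nth_rewrite 1 [ha]
      group
    rw [e2]
    exact hwc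

end IsClosing

end coset

end Cfsg.Agent.SporRec.Closing
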