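import Cfsg.Agent.Lib.PermNet
set_option linter.all false

/-!
# Bulk static certificates for index upper bounds (coset enumeration by level planes)

A certificate for "the orbit of `p` has at most `n` points": for every letter `a` a network `net a`
(permutation `π a` of the points `< n`) and *level planes* `lev a` (a list of bit planes, least
significant first, `val (lev a) i` is the level of the edge `(i, a)`).  Claim: `x a • f i = f (π a i)`
for all `i < n`, where `f 0 = p` and `f` is defined along a tree.  A *rule* says that for all `i` in a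
mask `M` the edge `(i, a)` follows from edges of smaller level along a word with value `x a`.
-/

set_option autoImplicit false

namespace Cfsg.Agent.SporRec.CosetBulk

open Cfsg.Agent.Lib.PermNet

/-! ### Values of lists of bit planes -/

/-- the number whose binary digits (least significant first) are the bits `i` of the planes -/
def val : List ℕ → ℕ → ℕ
  | [], _ => 0
  | p :: ps, i => (p.testBit i).toNat + 2 * val ps i

theorem val_nil (i : ℕ) : val [] i = 0 := rfl
theorem val_cons (p : ℕ) (ps : List ℕ) (i : ℕ) : val (p :: ps) i = (p.testBit i).toNat + 2 * val ps i := rfl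

/-- evaluate all entries of a list of numbers, then continue with the list -/
noncomputable def forceL (l : List ℕ) (k : List ℕ → List ℕ) : List ℕ :=
  List.rec (motive := fun _ => List ℕ) (k l) (fun p _ ih => Bool.rec ih ih (Nat.beq p 0)) l

theorem forceL_eq (l : List ℕ) (k : List ℕ → List ℕ) : forceL l k = k l := by
  have h : ∀ (c : List ℕ) (l' : List ℕ),
      List.rec (motive := fun _ => List ℕ) c (fun p _ ih => Bool.rec ih ih (Nat.beq p 0)) l' = c := by
    intro c l'
    induction l' with
    | nil => rfl
    | cons p ps ih =>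
      show (Bool.rec _ _ (Nat.beq p 0) : List ℕ) = c
      cases Nat.beq p 0 <;> exact ih
  exact h _ l

/-- the case of an empty first list in `ltP` -/
def ltN : List ℕ → ℕ → ℕ
  | [], acc => acc
  | b :: bs, acc => ltN bs (Nat.xor acc (Nat.land (Nat.xor acc b) b))

/-- plane of `{i | val as i < val bs i}` (`acc` decides the ties) -/
def ltP : List ℕ → List ℕ → ℕ → ℕ
  | [], bs, acc => ltN bs acc
  | a :: as, [], acc => ltP as [] (Nat.xor acc (Nat.land acc a))
  | a :: as, b :: bs, acc => ltP as bs (Nat.xor acc (Nat.land (Nat.xor acc b) (Nat.xor a b)))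

theorem testBit_xor' (a b i : ℕ) : (Nat.xor a b).testBit i = (a.testBit i ^^ b.testBit i) :=
  Nat.testBit_xor a b i

theorem testBit_land' (a b i : ℕ) : (Nat.land a b).testBit i = (a.testBit i && b.testBit i) :=
  Nat.testBit_and a b i

theorem testBit_lor' (a b i : ℕ) : (Nat.lor a b).testBit i = (a.testBit i || b.testBit i) :=
  Nat.testBit_or a b i

theorem testBit_ltN (bs : List ℕ) (acc i : ℕ) :
    (ltN bs acc).testBit i = true ↔
      (0 < val bs i ∨ (0 = val bs i ∧ acc.testBit i = true)) := by
  induction bs generalizing acc with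
  | nil => simp [ltN, val]
  | cons b bs ih =>
    rw [ltN, ih]
    simp only [val_cons, testBit_xor', testBit_land']
    cases b.testBit i <;> cases acc.testBit i <;> simp <;> omega

theorem testBit_ltP (as bs : List ℕ) (acc i : ℕ) :
    (ltP as bs acc).testBit i = true ↔
      (val as i < val bs i ∨ (val as i = val bs i ∧ acc.testBit i = true)) := by
  induction as generalizing bs acc with
  | nil => rw [ltP, testBit_ltN, val_nil]
  | cons a as ih =>
    cases bs with
    | nil =>
      rw [ltP, ih]
      simp only [val_cons, val_nil, testBit_xor', testBit_land']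
      cases a.testBit i <;> cases acc.testBit i <;> simp
    | cons b bs =>
      rw [ltP, ih]
      simp only [val_cons, testBit_xor', testBit_land']
      cases a.testBit i <;> cases b.testBit i <;> cases acc.testBit i <;> simp <;> omega

/-- the case of an empty first list in `selP` -/
def selN (t : ℕ) : List ℕ → List ℕ
  | [] => []
  | b :: bs => Nat.land b t :: selN t bs

/-- select `bs` where `t` has a one, `as` elsewhere -/
def selP (t : ℕ) : List ℕ → List ℕ → List ℕ
  | [], bs => selN t bs
  | a :: as, [] => Nat.xor a (Nat.land a t) :: selP t as []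
  | a :: as, b :: bs => Nat.xor a (Nat.land (Nat.xor a b) t) :: selP t as bs

theorem val_selN (t : ℕ) (bs : List ℕ) (i : ℕ) :
    val (selN t bs) i = if t.testBit i then val bs i else 0 := by
  induction bs with
  | nil => simp [selN, val]
  | cons b bs ih =>
    rw [selN, val_cons, ih, val_cons, testBit_land']
    cases b.testBit i <;> cases t.testBit i <;> simp

theorem val_selP (t : ℕ) (as bs : List ℕ) (i : ℕ) :
    val (selP t as bs) i = if t.testBit i then val bs i else val as i := by
  induction as generalizing bs with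
  | nil => rw [selP, val_selN, val_nil]
  | cons a as ih =>
    cases bs with
    | nil =>
      rw [selP, val_cons, ih, val_cons, testBit_xor', testBit_land']
      cases a.testBit i <;> cases t.testBit i <;> simp [val_nil]
    | cons b bs =>
      rw [selP, val_cons, ih, val_cons, val_cons, testBit_xor', testBit_land', testBit_xor']
      cases a.testBit i <;> cases b.testBit i <;> cases t.testBit i <;> simp

/-- planes of the maximum -/
def maxP (as bs : List ℕ) : List ℕ := selP (ltP as bs 0) as bs

theorem val_maxP (as bs : List ℕ) (i : ℕ) : val (maxP as bs) i = max (val as i) (val bs i) := by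
  unfold maxP
  rw [val_selP]
  by_cases h : (ltP as bs 0).testBit i = true
  · rw [if_pos h]
    rw [testBit_ltP] at h
    simp at h
    omega
  · rw [if_neg h]
    rw [testBit_ltP] at h
    simp at h
    omega

/-- apply a network to all planes -/
noncomputable def mapApp (L : Net) (l : List ℕ) : List ℕ :=
  List.rec (motive := fun _ => List ℕ) [] (fun p _ ih => L.app p :: ih) l

theorem val_mapApp {L : Net} {N : ℕ} (h : L.ok N = true) (l : List ℕ) (i : ℕ) :
    val (mapApp L l) i = val l (L.perm i) := by
  induction l with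
  | nil => rfl
  | cons p ps ih =>
    show ((L.app p).testBit i).toNat + 2 * val (mapApp L ps) i = _
    rw [ih, testBit_app h, val_cons]

/-- maximum of the levels of the edges met along a word (rightmost letter first), pulled back to
the starting point; `acc` is the level function after the word -/
noncomputable def pull (l : List (Net × List ℕ)) : List ℕ → List ℕ :=
  List.rec (motive := fun _ => List ℕ → List ℕ) (fun acc => acc)
    (fun s _ ih acc => forceL (maxP s.2 (mapApp s.1 acc)) ih) l

theorem pull_nil (acc : List ℕ) : pull [] acc = acc := rfl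
theorem pull_cons (s : Net × List ℕ) (l : List (Net × List ℕ)) (acc : List ℕ) :
    pull (s :: l) acc = pull l (maxP s.2 (mapApp s.1 acc)) := by
  show forceL (maxP s.2 (mapApp s.1 acc)) (pull l) = _
  rw [forceL_eq]

/-- the kernel check of a rule: on the mask `M` the levels along `l` are smaller than `La` -/
noncomputable def ruleCheck (l : List (Net × List ℕ)) (La : List ℕ) (M : ℕ) : Bool :=
  Nat.beq (Nat.land M (ltP (pull l []) La 0)) M

/-- kernel evaluation test -/
theorem test_eval : ruleCheck [(Net.cons 1 1 Net.nil, [1, 2]), (Net.nil, [3])] [0, 3] 1 = true := by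
  decide +kernel

/-! ### Steps and soundness -/

/-- a letter with its group element, network and level planes -/
structure Step (G : Type*) where
  g : G
  net : Net
  lev : List ℕ

section sound
variable {G X : Type*} [Group G] [MulAction G X] {ι : Type*}

/-- all edges of level `< B` of the letter `s` are correct -/
def Sound (n : ℕ) (f : ℕ → X) (B : ℕ) (s : Step G) : Prop :=
  ∀ j < n, val s.lev j < B → s.g • f j = f (s.net.perm j)

theorem walk {n : ℕ} {f : ℕ → X} {B : ℕ} {N : ℕ} (l : List (Step G))
    (hok : ∀ s ∈ l, s.net.ok N = true) (hn : ∀ s ∈ l, ∀ j < n, s.net.perm j < n)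
    (hs : ∀ s ∈ l, Sound n f B s) (acc : List ℕ) (i : ℕ) (hi : i < n)
    (h : val (pull (l.map fun s => (s.net, s.lev)) acc) i < B) :
    ((l.map fun s => s.g).prod • f i = f ((l.map fun s => s.net.perm).prod i)) ∧
      (l.map fun s => s.net.perm).prod i < n ∧
      val acc ((l.map fun s => s.net.perm).prod i) < B := by
  induction l generalizing acc with
  | nil => simpa [pull_nil] using ⟨hi, h⟩
  | cons s l ih =>
    rw [List.map_cons, pull_cons] at h
    obtain ⟨h1, h2, h3⟩ := ih (fun t ht => hok t (List.mem_cons_of_mem _ ht))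
      (fun t ht => hn t (List.mem_cons_of_mem _ ht)) (fun t ht => hs t (List.mem_cons_of_mem _ ht)) _ h
    rw [val_maxP, val_mapApp (hok s (by simp))] at h3
    rw [max_lt_iff] at h3
    refine ⟨?_, ?_, ?_⟩
    · rw [List.map_cons, List.prod_cons, mul_smul, h1, hs s (by simp) _ h2 h3.1]
      rw [List.map_cons, List.prod_cons, Equiv.Perm.mul_apply]
    · rw [List.map_cons, List.prod_cons, Equiv.Perm.mul_apply]
      exact hn s (by simp) _ h2
    · rw [List.map_cons, List.prod_cons, Equiv.Perm.mul_apply]
      exact h3.2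

/-- the edges `(i, a)` with `i ∈ M` follow from edges of smaller level -/
def Jus (n : ℕ) (f : ℕ → X) (st : ι → Step G) (a : ι) (M : ℕ) : Prop :=
  ∀ B, (∀ b, Sound n f B (st b)) → ∀ i < n, M.testBit i = true → val (st a).lev i ≤ B →
    (st a).g • f i = f ((st a).net.perm i)

theorem Jus.of_rule {n N : ℕ} {f : ℕ → X} {st : ι → Step G} {a : ι} {M : ℕ} (l : List (Step G))
    (hs : ∀ B, (∀ b, Sound n f B (st b)) → ∀ s ∈ l, Sound n f B s)
    (hok : ∀ s ∈ l, s.net.ok N = true) (hn : ∀ s ∈ l, ∀ j < n, s.net.perm j < n)
    (hg : (l.map fun s => s.g).prod = (st a).g)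
    (hp : ∀ i < n, (l.map fun s => s.net.perm).prod i = (st a).net.perm i)
    (hc : ruleCheck (l.map fun s => (s.net, s.lev)) (st a).lev M = true) :
    Jus n f st a M := by
  intro B hB i hi hM hlev
  have hc' := Nat.eq_of_beq_eq_true hc
  rw [← hc', testBit_land', Bool.and_eq_true] at hM
  have h2 := hM.2
  rw [testBit_ltP] at h2
  simp only [Nat.zero_testBit, Bool.false_eq_true, and_false, or_false] at h2
  obtain ⟨h3, -, -⟩ := walk l hok hn (hs B hB) [] i hi (lt_of_lt_of_le h2 hlev)
  rw [hg] at h3
  rw [h3, hp i hi]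

theorem Jus.of_fact {n : ℕ} {f : ℕ → X} {st : ι → Step G} {a : ι} {M : ℕ}
    (h : ∀ i < n, M.testBit i = true → (st a).g • f i = f ((st a).net.perm i)) : Jus n f st a M :=
  fun _ _ i hi hM _ => h i hi hM

theorem Jus.or {n : ℕ} {f : ℕ → X} {st : ι → Step G} {a : ι} {M M' : ℕ}
    (h : Jus n f st a M) (h' : Jus n f st a M') : Jus n f st a (Nat.lor M M') := by
  intro B hB i hi hM hlev
  rw [testBit_lor', Bool.or_eq_true] at hM
  rcases hM with hM | hM
  · exact h B hB i hi hM hlev
  · exact h' B hB i hi hM hlev

/-- the union of the masks of a list -/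
noncomputable def orAll (l : List ℕ) : ℕ := List.rec (motive := fun _ => ℕ) 0 (fun p _ ih => Nat.lor p ih) l

/-- all `i < n` are in one of the masks -/
noncomputable def coverCheck (n : ℕ) (l : List ℕ) : Bool :=
  Nat.beq (Nat.land (Nat.sub (Nat.pow 2 n) 1) (orAll l)) (Nat.sub (Nat.pow 2 n) 1)

theorem testBit_orAll (l : List ℕ) (i : ℕ) (h : (orAll l).testBit i = true) :
    ∃ M ∈ l, M.testBit i = true := by
  induction l with
  | nil => simp [orAll] at h
  | cons p ps ih =>
    have h' : (Nat.lor p (orAll ps)).testBit i = true := h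
    rw [testBit_lor', Bool.or_eq_true] at h'
    rcases h' with h' | h'
    · exact ⟨p, by simp, h'⟩
    · obtain ⟨M, hM, hM'⟩ := ih h'
      exact ⟨M, by simp [hM], hM'⟩

theorem cover_of_check {n : ℕ} {l : List ℕ} (h : coverCheck n l = true) {i : ℕ} (hi : i < n) :
    ∃ M ∈ l, M.testBit i = true := by
  have h' := Nat.eq_of_beq_eq_true h
  have h1 : (2 ^ n - 1).testBit i = true := by
    rw [Nat.testBit_two_pow_sub_one]; simpa using hi
  have h2 : (Nat.sub (Nat.pow 2 n) 1).testBit i = true := h1
  rw [← h', testBit_land', Bool.and_eq_true] at h2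
  exact testBit_orAll l i h2.2

theorem Jus.of_cover {n : ℕ} {f : ℕ → X} {st : ι → Step G} {a : ι} {l : List ℕ} {M : ℕ}
    (h : coverCheck n l = true) (hl : ∀ M' ∈ l, Jus n f st a M') : Jus n f st a M := by
  intro B hB i hi _ hlev
  obtain ⟨M', hM', hi'⟩ := cover_of_check h hi
  exact hl M' hM' B hB i hi hi' hlev

/-- the main induction -/
theorem sound_of_jus {n : ℕ} {f : ℕ → X} {st : ι → Step G} (M : ι → ℕ)
    (hM : ∀ a, ∀ i < n, (M a).testBit i = true) (h : ∀ a, Jus n f st a (M a)) :
    ∀ a, ∀ i < n, (st a).g • f i = f ((st a).net.perm i) := by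
  have key : ∀ B, ∀ b, Sound n f B (st b) := by
    intro B
    induction B with
    | zero => intro b j _ hj; exact absurd hj (Nat.not_lt_zero _)
    | succ B ih =>
      intro b j hj hlt
      exact h b B ih j hj (hM b j hj) (Nat.le_of_lt_succ hlt)
  intro a i hi
  exact key (val (st a).lev i + 1) a i hi (Nat.lt_succ_self _)

theorem sound_of_cover {n : ℕ} {f : ℕ → X} {st : ι → Step G} (cov : ι → List ℕ)
    (hc : ∀ a, coverCheck n (cov a) = true) (h : ∀ a, ∀ M ∈ cov a, Jus n f st a M) :
    ∀ a, ∀ i < n, (st a).g • f i = f ((st a).net.perm i) := by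
  refine sound_of_jus (fun _ => Nat.sub (Nat.pow 2 n) 1) ?_ (fun a => Jus.of_cover (hc a) (h a))
  intro a i hi
  show (2 ^ n - 1).testBit i = true
  rw [Nat.testBit_two_pow_sub_one]; simpa using hi

/-! ### The tree -/

/-- existence of the labelling `f` along a tree given by masks `P a` (points whose parent is reached
by the letter `a`) and a rank function -/
theorem exists_tree {n : ℕ} (x : ι → G) (π : ι → ℕ → ℕ) (P : ι → ℕ) (rk : ℕ → ℕ) (p : X) (r0 : ℕ)
    (hroot : ∀ a, (P a).testBit r0 = false)
    (hdisj : ∀ a b i, (P a).testBit i = true → (P b).testBit i = true → a = b)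
    (hlt : ∀ a i, i < n → (P a).testBit i = true → rk (π a i) < rk i) :
    ∃ f : ℕ → X, f r0 = p ∧
      ∀ a, ∀ i < n, (P a).testBit i = true → x a • f i = f (π a i) := by
  classical
  let F : (i : ℕ) → (∀ j, rk j < rk i → X) → X := fun i rec =>
    if h : ∃ a, (P a).testBit i = true ∧ rk (π a i) < rk i then
      (x h.choose)⁻¹ • rec (π h.choose i) h.choose_spec.2
    else p
  let f : ℕ → X := fun i => WellFounded.fix (measure rk).wf F i
  have hf : ∀ i, f i = F i (fun j _ => f j) := fun i => WellFounded.fix_eq _ F i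
  refine ⟨f, ?_, ?_⟩
  · rw [hf]
    show dite _ _ _ = p
    rw [dif_neg]
    rintro ⟨a, ha, -⟩
    rw [hroot a] at ha
    exact absurd ha (by simp)
  · intro a i hi ha
    rw [hf i]
    show x a • dite _ _ _ = _
    have h : ∃ b, (P b).testBit i = true ∧ rk (π b i) < rk i := ⟨a, ha, hlt a i hi ha⟩
    rw [dif_pos h]
    have e : h.choose = a := hdisj _ _ i h.choose_spec.1 ha
    show x a • (x h.choose)⁻¹ • f (π h.choose i) = f (π a i)
    rw [e, smul_inv_smul]

/-- kernel check: on the mask `P` the rank decreases under the network -/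
noncomputable def treeCheck (L : Net) (R : List ℕ) (P : ℕ) : Bool :=
  Nat.beq (Nat.land P (ltP (mapApp L R) R 0)) P

theorem lt_of_treeCheck {L : Net} {N : ℕ} (hL : L.ok N = true) {R : List ℕ} {P : ℕ}
    (h : treeCheck L R P = true) {i : ℕ} (hi : P.testBit i = true) :
    val R (L.perm i) < val R i := by
  have h' := Nat.eq_of_beq_eq_true h
  rw [← h', testBit_land', Bool.and_eq_true] at hi
  have h2 := hi.2
  rw [testBit_ltP] at h2
  simpa only [Nat.zero_testBit, Bool.false_eq_true, and_false, or_false, val_mapApp hL] using h2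

theorem disj_of_land {P Q : ℕ} (h : Nat.beq (Nat.land P Q) 0 = true) {i : ℕ} (hP : P.testBit i = true)
    (hQ : Q.testBit i = true) : False := by
  have h' : Nat.land P Q = 0 := Nat.eq_of_beq_eq_true h
  have := testBit_land' P Q i
  rw [h', hP, hQ, Nat.zero_testBit] at this
  simp at this

/-- kernel check: the network preserves `{0, …, n-1}` -/
noncomputable def rangeCheck (L : Net) (n : ℕ) : Bool :=
  Nat.beq (L.app (Nat.sub (Nat.pow 2 n) 1)) (Nat.sub (Nat.pow 2 n) 1)

theorem lt_iff_of_rangeCheck {L : Net} {N : ℕ} (hL : L.ok N = true) {n : ℕ}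
    (h : rangeCheck L n = true) (i : ℕ) : L.perm i < n ↔ i < n := by
  have h' : L.app (2 ^ n - 1) = 2 ^ n - 1 := Nat.eq_of_beq_eq_true h
  have h2 := testBit_app hL (2 ^ n - 1) i
  rw [h', Nat.testBit_two_pow_sub_one, Nat.testBit_two_pow_sub_one] at h2
  simpa using (decide_eq_decide.1 h2).symm

/-! ### More justifications -/

/-- the mask where a rule works -/
noncomputable def ruleMask (l : List (Net × List ℕ)) (La : List ℕ) : ℕ := ltP (pull l []) La 0

theorem Jus.of_rule_mask {n N : ℕ} {f : ℕ → X} {st : ι → Step G} {a : ι} (l : List (Step G))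
    (hs : ∀ B, (∀ b, Sound n f B (st b)) → ∀ s ∈ l, Sound n f B s)
    (hok : ∀ s ∈ l, s.net.ok N = true) (hn : ∀ s ∈ l, ∀ j < n, s.net.perm j < n)
    (hg : (l.map fun s => s.g).prod = (st a).g)
    (hp : ∀ i < n, (l.map fun s => s.net.perm).prod i = (st a).net.perm i) :
    Jus n f st a (ruleMask (l.map fun s => (s.net, s.lev)) (st a).lev) := by
  intro B hB i hi hM hlev
  rw [ruleMask, testBit_ltP] at hM
  simp only [Nat.zero_testBit, Bool.false_eq_true, and_false, or_false] at hM
  obtain ⟨h3, -, -⟩ := walk l hok hn (hs B hB) [] i hi (lt_of_lt_of_le hM hlev)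
  rw [hg] at h3
  rw [h3, hp i hi]

/-- an involution: the other ends of the edges -/
theorem Jus.symm {n N : ℕ} {f : ℕ → X} {st : ι → Step G} {a : ι} {M : ℕ}
    (hok : (st a).net.ok N = true) (hn : ∀ j < n, (st a).net.perm j < n)
    (hg : (st a).g * (st a).g = 1) (hp : ∀ i, (st a).net.perm ((st a).net.perm i) = i)
    (hsym : mapApp (st a).net (st a).lev = (st a).lev) (h : Jus n f st a M) :
    Jus n f st a ((st a).net.app M) := by
  intro B hB i hi hM hlev
  rw [testBit_app hok] at hM
  have h1 : val (st a).lev ((st a).net.perm i) = val (st a).lev i := by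
    rw [← val_mapApp hok, hsym]
  have h2 := h B hB _ (hn i hi) hM (h1 ▸ hlev)
  rw [hp] at h2
  rw [← h2, smul_smul, hg, one_smul]

/-- kernel-fast value of a list of planes -/
noncomputable def valK (l : List ℕ) (i : ℕ) : ℕ :=
  List.rec (motive := fun _ => ℕ) 0
    (fun p _ ih => Nat.add (Nat.land (Nat.shiftRight p i) 1) (Nat.mul 2 ih)) l

theorem valK_eq (l : List ℕ) (i : ℕ) : valK l i = val l i := by
  induction l with
  | nil => rfl
  | cons p ps ih =>
    show ((p >>> i) &&& 1) + 2 * valK ps i = _
    rw [ih, val_cons, Nat.and_one_is_mod, Nat.shiftRight_eq_div_pow, Nat.testBit_eq_decide_div_mod_eq]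
    rcases Nat.mod_two_eq_zero_or_one (p / 2 ^ i) with h | h <;> simp [h]

/-- walk along a path (first letter first), all levels must be `< B` -/
noncomputable def walkP (l : List (Net × List ℕ)) (B : ℕ) : ℕ → Bool :=
  List.rec (motive := fun _ => ℕ → Bool) (fun _ => true)
    (fun s _ ih i => and (Nat.blt (valK s.2 i) B) (seqB (s.1.pt i) ih)) l

theorem walkP_cons (s : Net × List ℕ) (l : List (Net × List ℕ)) (B i : ℕ) :
    walkP (s :: l) B i = (Nat.blt (val s.2 i) B && walkP l B (s.1.pt i)) := by
  show and (Nat.blt (valK s.2 i) B) (seqB (s.1.pt i) (walkP l B)) = _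
  rw [seqB_eq, valK_eq]

theorem walk_of_walkP {n : ℕ} {f : ℕ → X} {B : ℕ} {N : ℕ} (l : List (Step G))
    (hok : ∀ s ∈ l, s.net.ok N = true) (hn : ∀ s ∈ l, ∀ j < n, s.net.perm j < n)
    (hs : ∀ s ∈ l, Sound n f B s) (i : ℕ) (hi : i < n)
    (h : walkP (l.map fun s => (s.net, s.lev)) B i = true) :
    ((l.map fun s => s.g).reverse.prod • f i = f ((l.map fun s => s.net.perm).reverse.prod i)) := by
  induction l generalizing i with
  | nil => simp
  | cons s l ih =>
    rw [List.map_cons, walkP_cons, Bool.and_eq_true] at h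
    obtain ⟨h1, h2⟩ := h
    have h1' : val s.lev i < B := by
      simpa [Nat.blt_eq] using h1
    have hok1 := hok s (by simp)
    have h2' : walkP (l.map fun s => (s.net, s.lev)) B (s.net.perm i) = true := by
      rw [← Net.pt_eq hok1]; exact h2
    have h3 := ih (fun t ht => hok t (List.mem_cons_of_mem _ ht))
      (fun t ht => hn t (List.mem_cons_of_mem _ ht)) (fun t ht => hs t (List.mem_cons_of_mem _ ht))
      (s.net.perm i) (hn s (by simp) i hi) h2'
    rw [List.map_cons, List.map_cons, List.reverse_cons, List.reverse_cons, List.prod_append,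
      List.prod_append, List.prod_singleton, List.prod_singleton, Equiv.Perm.mul_apply, ← h3,
      mul_smul, hs s (by simp) i hi h1']

/-- a single edge justified by a path (first letter of `l` first) -/
theorem Jus.of_path {n N : ℕ} {f : ℕ → X} {st : ι → Step G} {a : ι} (l : List (Step G)) (i₀ : ℕ)
    (hs : ∀ B, (∀ b, Sound n f B (st b)) → ∀ s ∈ l, Sound n f B s)
    (hok : ∀ s ∈ l, s.net.ok N = true) (hn : ∀ s ∈ l, ∀ j < n, s.net.perm j < n)
    (hg : (l.map fun s => s.g).reverse.prod = (st a).g)
    (hp : (l.map fun s => s.net.perm).reverse.prod i₀ = (st a).net.perm i₀)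
    (hc : walkP (l.map fun s => (s.net, s.lev)) (valK (st a).lev i₀) i₀ = true) :
    Jus n f st a (Nat.shiftLeft 1 i₀) := by
  intro B hB i hi hM hlev
  have hM' : (1 <<< i₀).testBit i = true := hM
  rw [Nat.one_shiftLeft, Nat.testBit_two_pow] at hM'
  have e : i₀ = i := by simpa using hM'
  subst e
  rw [valK_eq] at hc
  have hs' : ∀ s ∈ l, Sound n f (val (st a).lev i₀) s := fun s hsl j hj hlt =>
    hs B hB s hsl j hj (lt_of_lt_of_le hlt hlev)
  have h3 := walk_of_walkP l hok hn hs' i₀ hi hc
  rw [hg] at h3
  rw [h3, hp]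

/-- tree edges -/
theorem Jus.of_tree {n : ℕ} {f : ℕ → X} {st : ι → Step G} {a : ι} {M : ℕ}
    (h : ∀ i < n, M.testBit i = true → (st a).g • f i = f ((st a).net.perm i)) : Jus n f st a M :=
  Jus.of_fact h

/-- a fixed point -/
theorem Jus.of_fixed {n : ℕ} {f : ℕ → X} {st : ι → Step G} {a : ι} (i₀ : ℕ)
    (h : (st a).g • f i₀ = f i₀) (hp : (st a).net.perm i₀ = i₀) : Jus n f st a (Nat.shiftLeft 1 i₀) := by
  intro B _ i _ hM _
  have hM' : (1 <<< i₀).testBit i = true := hM
  rw [Nat.one_shiftLeft, Nat.testBit_two_pow] at hM'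
  have e : i₀ = i := by simpa using hM'
  subst e
  rw [h, hp]

end sound

end Cfsg.Agent.SporRec.CosetBulk
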